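import Mathlib

/-!
# A multiplicative polynomial function is determined by its values on split forms
-/

set_option autoImplicit false

noncomputable section

namespace Groth.Agent.DegPolyLib

open Polynomial

/-- The coefficients below the top one of the split form `∏ (X + c i)`. -/
def splitCoef {R : Type*} [CommRing R] {d : ℕ} (c : Fin d → R) (j : Fin d) : R :=
  (∏ i, (X + C (c i))).coeff j

theorem prod_eq_eval_splitCoef {R : Type*} [CommRing R] {d : ℕ} (c : Fin d → R) (ω : R) :
    ∏ i, (ω + c i) = ω ^ d + ∑ j : Fin d, splitCoef c j * ω ^ (j : ℕ) := by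
  rcases subsingleton_or_nontrivial R with h | h
  · exact Subsingleton.elim _ _
  have hm : (∏ i, (X + C (c i))).Monic := monic_prod_of_monic _ _ fun i _ => monic_X_add_C _
  have hd : (∏ i, (X + C (c i))).natDegree = d := by
    rw [natDegree_prod_of_monic _ _ fun i _ => monic_X_add_C _]
    simp
  have h1 : (∏ i, (X + C (c i))).eval ω = ∏ i, (ω + c i) := by rw [eval_prod]; simp
  have hc : (∏ i, (X + C (c i))).coeff d = 1 := by
    have := hm.coeff_natDegree
    rwa [hd] at this
  rw [← h1, eval_eq_sum_range, hd, Finset.sum_range_succ, hc, one_mul, add_comm]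
  congr 1
  exact (Fin.sum_univ_eq_sum_range (fun j => (∏ i, (X + C (c i))).coeff j * ω ^ j) d).symm

/-- Integral split forms are dense. -/
theorem eq_zero_of_split {E : Type*} [Field E] [CharZero E] {d : ℕ} (Q : MvPolynomial (Fin d) E)
    (h : ∀ c : Fin d → ℤ, MvPolynomial.eval (splitCoef fun i => (c i : E)) Q = 0) : Q = 0 := by
  classical
  let Φ : MvPolynomial (Fin d) E →ₐ[E] MvPolynomial (Fin d) E :=
    MvPolynomial.aeval (fun j => splitCoef (MvPolynomial.X : Fin d → MvPolynomial (Fin d) E) j)
  have hΦ : Function.Injective Φ := by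
    have e : ∀ p, Φ p = (MvPolynomial.esymmAlgHom (Fin d) E d (MvPolynomial.rename (Fin.rev (n := d)) p) :
        MvPolynomial (Fin d) E) := fun p => by
      rw [MvPolynomial.esymmAlgHom_apply, MvPolynomial.aeval_rename]
      show MvPolynomial.aeval _ p = _
      congr 2
      funext j
      rw [splitCoef, Finset.prod_X_add_C_coeff Finset.univ _ (by simp [j.isLt.le]), Finset.card_univ, Fintype.card_fin]
      show _ = MvPolynomial.esymm (Fin d) E _
      rw [MvPolynomial.esymm, Fin.val_rev, show d - (j + 1) + 1 = d - j by omega]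
    intro p q hpq
    rw [e, e] at hpq
    exact MvPolynomial.rename_injective _ (Fin.rev_involutive.injective)
      (MvPolynomial.esymmAlgHom_injective E (by simp) (Subtype.ext hpq))
  apply hΦ
  rw [map_zero]
  refine MvPolynomial.funext_set (fun _ => Set.range (Int.cast : ℤ → E)) (fun _ => Set.infinite_range_of_injective Int.cast_injective) ?_
  intro x hx
  choose c hc using fun i => hx i (Set.mem_univ i)
  rw [map_zero, ← h c]
  show MvPolynomial.eval x (MvPolynomial.aeval _ Q) = _
  rw [← MvPolynomial.aeval_eq_eval, ← AlgHom.comp_apply, MvPolynomial.comp_aeval]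
  show MvPolynomial.aeval _ Q = MvPolynomial.aeval (splitCoef fun i => (c i : E)) Q
  congr 2
  funext j
  rw [show (fun i => (c i : E)) = x from funext hc]
  unfold splitCoef
  refine ((Polynomial.coeff_map (MvPolynomial.aeval (S₁ := E) (R := E) x).toRingHom _).symm.trans ?_)
  rw [Polynomial.map_prod]
  simp

/-- A polynomial function with the values of the resultant on split forms is the resultant. -/
theorem eval_eq_prod_roots {K E : Type*} [Field K] [Field E] [CharZero E] [IsAlgClosed E] [Algebra K E]
    (P : K[X]) (hP : P.Monic) (hev : Even P.natDegree) {d : ℕ} (N : MvPolynomial (Fin d) K)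
    (hN : ∀ c : Fin d → ℤ, MvPolynomial.eval (splitCoef fun i => (c i : K)) N = ∏ i, P.eval (-(c i : K)))
    (a : Fin d → K) :
    algebraMap K E (MvPolynomial.eval a N) =
      ((P.map (algebraMap K E)).roots.map fun ω => ω ^ d + ∑ j : Fin d, algebraMap K E (a j) * ω ^ (j : ℕ)).prod := by
  classical
  set P' := P.map (algebraMap K E) with hP'
  let L : E → MvPolynomial (Fin d) E := fun ω =>
    MvPolynomial.C (ω ^ d) + ∑ j : Fin d, MvPolynomial.X j * MvPolynomial.C (ω ^ (j : ℕ))
  have hL : ∀ (x : Fin d → E) (ω : E), MvPolynomial.eval x (L ω) = ω ^ d + ∑ j : Fin d, x j * ω ^ (j : ℕ) :=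
    fun x ω => by simp [L]
  have hQ : MvPolynomial.map (algebraMap K E) N - (P'.roots.map L).prod = 0 := by
    refine eq_zero_of_split _ fun c => ?_
    rw [map_sub, sub_eq_zero, map_multiset_prod, Multiset.map_map]
    have e1 : (splitCoef fun i => (c i : E)) = algebraMap K E ∘ splitCoef (fun i => (c i : K)) := funext fun j => by
      simp [splitCoef, ← Polynomial.coeff_map, Polynomial.map_prod]
    conv_lhs => rw [e1]
    rw [MvPolynomial.eval_map, ← MvPolynomial.eval₂_comp, hN, map_prod]
    simp only [Function.comp_def, hL, ← prod_eq_eval_splitCoef]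
    rw [Multiset.prod_map_prod]
    refine Finset.prod_congr rfl fun i _ => ?_
    rw [← Polynomial.eval₂_at_apply, ← Polynomial.eval_map, ← hP', map_neg, map_intCast]
    have hsplit : P'.Splits := IsAlgClosed.splits P'
    conv_lhs => rw [hsplit.eq_prod_roots_of_monic (hP.map _)]
    rw [eval_multiset_prod, Multiset.map_map]
    have hcard : Even P'.roots.card := by
      rwa [← hsplit.natDegree_eq_card_roots, hP.natDegree_map]
    calc (P'.roots.map ((fun p => p.eval (-(c i : E))) ∘ fun ω => X - C ω)).prod
        = (P'.roots.map fun ω => (-1) * (ω + (c i : E))).prod :=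
          congrArg Multiset.prod (Multiset.map_congr rfl fun ω _ => by simp; ring)
      _ = (P'.roots.map fun ω => ω + (c i : E)).prod := by
          rw [Multiset.prod_map_mul, Multiset.map_const', Multiset.prod_replicate, hcard.neg_one_pow, one_mul]
  have h := congrArg (MvPolynomial.eval (algebraMap K E ∘ a)) (sub_eq_zero.1 hQ)
  rw [MvPolynomial.eval_map, ← MvPolynomial.eval₂_comp, map_multiset_prod, Multiset.map_map] at h
  rw [h]
  simp only [Function.comp_def, hL]

end Groth.Agent.DegPolyLib
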