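import Mathlib
import Groth.Agent.DegPolyLib.Resultant

/-!
# Determinants of forms in one matrix
-/

set_option autoImplicit false

noncomputable section

namespace Groth.Agent.DegPolyLib

open Polynomial (X C)

variable {R : Type*} [CommRing R] {m : Type*} [Fintype m] [DecidableEq m] (M : Matrix m m R)

theorem det_split (hev : Even (Fintype.card m)) {d : ℕ} (c : Fin d → R) :
    (M ^ d + ∑ j : Fin d, splitCoef c j • M ^ (j : ℕ)).det = ∏ i, M.charpoly.eval (-c i) := by
  let N : Polynomial R →* R :=
    Matrix.detMonoidHom.comp (Polynomial.aeval M : Polynomial R →ₐ[R] Matrix m m R).toMonoidHom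
  have e : M ^ d + ∑ j : Fin d, splitCoef c j • M ^ (j : ℕ) = Polynomial.aeval M (∏ i, (X + C (c i))) := by
    rw [prod_eq_eval_splitCoef (fun i => C (c i)) (X : Polynomial R), map_add, map_pow, Polynomial.aeval_X, map_sum]
    congr 1
    refine Finset.sum_congr rfl fun j _ => ?_
    have e : splitCoef (fun i => C (c i)) j = C (splitCoef c j) := by
      rw [splitCoef, splitCoef, ← Polynomial.coeff_map, Polynomial.map_prod]
      simp
    rw [e, map_mul, map_pow, Polynomial.aeval_X, Polynomial.aeval_C, Algebra.smul_def]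
  rw [e]
  show N _ = _
  rw [map_prod]
  refine Finset.prod_congr rfl fun i _ => ?_
  show (Polynomial.aeval M (X + C (c i))).det = _
  rw [map_add, Polynomial.aeval_X, Polynomial.aeval_C, Matrix.eval_charpoly]
  have h : Matrix.scalar m (-c i) - M = -(M + algebraMap R (Matrix m m R) (c i)) := by
    rw [map_neg, show algebraMap R (Matrix m m R) (c i) = Matrix.scalar m (c i) from rfl]
    abel
  rw [h, Matrix.det_neg, hev.neg_one_pow, one_mul]

/-- The determinant of monic forms as a polynomial in the coefficients. -/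
theorem exists_detForm (d : ℕ) : ∃ D : MvPolynomial (Fin d) R, ∀ a : Fin d → R,
    MvPolynomial.eval a D = (M ^ d + ∑ j : Fin d, a j • M ^ (j : ℕ)).det := by
  refine ⟨((M ^ d).map MvPolynomial.C + ∑ j : Fin d, (MvPolynomial.X j : MvPolynomial (Fin d) R) •
    (M ^ (j : ℕ)).map MvPolynomial.C).det, fun a => ?_⟩
  rw [RingHom.map_det]
  congr 1
  ext i i'
  simp [Matrix.sum_apply]

end Groth.Agent.DegPolyLib
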