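import Groth.Agent.DegPolyLib.PtsDvd
import Groth.Agent.AVLib.Isog
import Groth.Agent.GrpQuotLib.KerGrp

/-!
# The number of rational points of the kernel divides the degree
-/

set_option autoImplicit false
set_option backward.isDefEq.respectTransparency false
set_option linter.style.haveILetI false

universe u

open CategoryTheory CategoryTheory.Limits MonoidalCategory CartesianMonoidalCategory MonObj AlgebraicGeometry
open Groth.Agent.GrpSchLib (spO spMap)

noncomputable section

namespace Groth.Agent.DegPolyLib

variable {K : Type u} [Field K] [IsAlgClosed K]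

variable {A B : Over (Spec (CommRingCat.of K))}
  [GrpObj A] [IsProper A.hom] [GeometricallyIntegral A.hom]
  [GrpObj B] [IsProper B.hom] [GeometricallyIntegral B.hom]

/-- The kernel of an isogeny on rational points. -/
theorem natCard_ker_dvd {g : ℕ} (hA : topologicalKrullDim A.left = g) (hB : topologicalKrullDim B.left = g)
    (α : A ⟶ B) [IsMonHom α] (hα : IsFinite α.left) (b : B.left) :
    Finite {x : 𝟙_ (Over (Spec (CommRingCat.of K))) ⟶ A // x ≫ α = 1} ∧
      Nat.card {x : 𝟙_ (Over (Spec (CommRingCat.of K))) ⟶ A // x ≫ α = 1} ∣ Scheme.Hom.finrank α.left b := by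
  haveI : IsIntegral B.left := GeometricallyIntegral.isIntegral_of_subsingleton B.hom
  haveI : PreconnectedSpace B.left := inferInstance
  haveI : IsLocallyNoetherian B.left := LocallyOfFiniteType.isLocallyNoetherian B.hom
  haveI := (AVLib.flat_iff_isFinite α (hA.trans hB.symm)).2 hα
  haveI := hα
  haveI : LocallyOfFinitePresentation α.left := inferInstance
  obtain ⟨hN, ha⟩ := GrpQuotLib.exists_grpObj_kernel α
  letI := hN
  have hsq := GrpQuotLib.isPullback_left (IsPullback.of_hasPullback α η[B])
  have e : (pullback α η[B]).hom = hsq.isoPullback.hom ≫ pullback.snd α.left η[B].left := by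
    rw [hsq.isoPullback_hom_snd, ← Over.w (pullback.snd α η[B])]
    exact Category.comp_id _
  haveI : IsFinite (pullback α η[B]).hom := by rw [e]; infer_instance
  haveI : Flat (pullback α η[B]).hom := by rw [e]; infer_instance
  obtain ⟨hF, hd⟩ := natCard_points_dvd (pullback α η[B]) (n := Scheme.Hom.finrank α.left b) fun x => by
    rw [e, Scheme.Hom.finrank_comp_left_of_isIso, Scheme.Hom.finrank_pullback_snd,
      α.left.isLocallyConstant_finrank.apply_eq_of_preconnectedSpace _ b]
  have hη : η[B] = (1 : 𝟙_ (Over (Spec (CommRingCat.of K))) ⟶ B) := by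
    rw [Hom.one_def, toUnit_unique (toUnit _) (𝟙 _), Category.id_comp]
  let E : (𝟙_ (Over (Spec (CommRingCat.of K))) ⟶ pullback α η[B]) ≃
      {x : 𝟙_ (Over (Spec (CommRingCat.of K))) ⟶ A // x ≫ α = 1} :=
    { toFun := fun s => ⟨s ≫ pullback.fst α η[B], by
        rw [Category.assoc, pullback.condition]
        exact (congrArg (fun t => s ≫ pullback.snd α η[B] ≫ t) hη).trans (by rw [MonObj.comp_one, MonObj.comp_one])⟩
      invFun := fun t => pullback.lift t.1 (𝟙 _) (by rw [t.2, Category.id_comp, hη])
      left_inv := fun s => pullback.hom_ext (by simp) (toUnit_unique _ _)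
      right_inv := fun t => Subtype.ext (by simp) }
  exact ⟨Finite.of_equiv _ E, (Nat.card_congr E) ▸ hd⟩

end Groth.Agent.DegPolyLib
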