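import Mathlib

/-!
# The order of a cokernel over the `l`-adic integers
-/

set_option autoImplicit false

noncomputable section

namespace Groth.Agent.DegPolyLib

variable {l : ℕ} [Fact l.Prime]

theorem natCard_quotient_span (a : ℤ_[l]) (ha : a ≠ 0) :
    Nat.card (ℤ_[l] ⧸ Ideal.span {a}) = l ^ a.valuation := by
  have h : Ideal.span {a} = RingHom.ker (PadicInt.toZModPow (p := l) a.valuation) := by
    rw [PadicInt.ker_toZModPow, Ideal.span_singleton_eq_span_singleton]
    exact ⟨(PadicInt.unitCoeff ha)⁻¹, by
      conv_lhs => arg 1; rw [PadicInt.unitCoeff_spec ha]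
      rw [mul_comm (PadicInt.unitCoeff ha : ℤ_[l]), mul_assoc, Units.mul_inv, mul_one]⟩
  rw [h, Nat.card_congr (RingHom.quotientKerEquivOfSurjective
    (ZMod.ringHom_surjective (PadicInt.toZModPow (p := l) a.valuation))).toEquiv, Nat.card_zmod]

theorem valuation_eq_of_associated {a b : ℤ_[l]} (h : Associated a b) : a.valuation = b.valuation := by
  obtain ⟨u, rfl⟩ := h
  rcases eq_or_ne a 0 with rfl | ha
  · rw [zero_mul]
  rw [PadicInt.valuation_mul ha u.ne_zero]
  have h1 : (u : ℤ_[l]).valuation = 0 := by
    have h2 := PadicInt.valuation_mul (p := l) u.ne_zero (Units.ne_zero u⁻¹)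
    rw [Units.mul_inv, PadicInt.valuation_one] at h2
    omega
  omega

theorem valuation_prod {ι : Type*} (s : Finset ι) (a : ι → ℤ_[l]) (h : ∀ i ∈ s, a i ≠ 0) :
    (∏ i ∈ s, a i).valuation = ∑ i ∈ s, (a i).valuation := by
  classical
  induction s using Finset.induction_on with
  | empty => simp
  | insert i s hi ih =>
    rw [Finset.prod_insert hi, Finset.sum_insert hi, PadicInt.valuation_mul (h i (Finset.mem_insert_self i s))
      (Finset.prod_ne_zero_iff.2 fun j hj => h j (Finset.mem_insert_of_mem hj)),
      ih fun j hj => h j (Finset.mem_insert_of_mem hj)]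

variable {ι M N : Type*} [Fintype ι] [DecidableEq ι] [AddCommGroup M] [Module ℤ_[l] M] [AddCommGroup N] [Module ℤ_[l] N]
  (bM : Module.Basis ι ℤ_[l] M) (bN : Module.Basis ι ℤ_[l] N) (u : M →ₗ[ℤ_[l]] N)

theorem det_eq_zero_of_not_injective (h : ¬ Function.Injective u) : (LinearMap.toMatrix bM bN u).det = 0 := by
  by_contra hd
  have h1 := Matrix.mulVec_injective_iff.2 (Matrix.linearIndependent_cols_of_det_ne_zero hd)
  refine h fun x y hxy => bM.equivFun.injective (h1 ?_)
  simp only [Module.Basis.equivFun_apply, LinearMap.toMatrix_mulVec_repr, hxy]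

/-- The cokernel of an injective map of free modules of the same rank has order `l ^ v(det)`. -/
theorem natCard_coker (h : Function.Injective u) :
    (LinearMap.toMatrix bM bN u).det ≠ 0 ∧
      Nat.card (N ⧸ LinearMap.range u) = l ^ (LinearMap.toMatrix bM bN u).det.valuation := by
  have hrk : Module.finrank ℤ_[l] (LinearMap.range u) = Module.finrank ℤ_[l] N := by
    rw [← (LinearEquiv.ofInjective u h).finrank_eq, Module.finrank_eq_card_basis bM, Module.finrank_eq_card_basis bN]
  set a := Submodule.smithNormalFormCoeffs bN hrk with ha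
  let b' := Submodule.smithNormalFormTopBasis bN hrk
  let ab := Submodule.smithNormalFormBotBasis bN hrk
  let bM' := ab.map (LinearEquiv.ofInjective u h).symm
  have hne : ∀ i, a i ≠ 0 := Submodule.smithNormalFormCoeffs_ne_zero bN hrk
  have hdiag : LinearMap.toMatrix bM' b' u = Matrix.diagonal a := by
    ext i j
    rw [LinearMap.toMatrix_apply, show u (bM' j) = a j • b' j by
      rw [show u (bM' j) = ((ab j : LinearMap.range u) : N) from
        congrArg Subtype.val ((LinearEquiv.ofInjective u h).apply_symm_apply (ab j))]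
      exact Submodule.smithNormalFormBotBasis_def bN hrk j, map_smul, Finsupp.smul_apply, b'.repr_self,
      Finsupp.single_apply, Matrix.diagonal_apply]
    rcases eq_or_ne i j with rfl | hij
    · simp
    · simp [hij, hij.symm]
  have hassoc : Associated (∏ i, a i) (LinearMap.toMatrix bM bN u).det := by
    rw [← Matrix.det_diagonal, ← hdiag, ← basis_toMatrix_mul_linearMap_toMatrix_mul_basis_toMatrix bM bM' bN b' u,
      Matrix.det_mul, Matrix.det_mul]
    have h1 : IsUnit (bN.toMatrix b').det :=
      (Matrix.isUnit_iff_isUnit_det _).1 (letI := Module.Basis.invertibleToMatrix bN b'; isUnit_of_invertible _)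
    have h3 : IsUnit (bM'.toMatrix bM).det :=
      (Matrix.isUnit_iff_isUnit_det _).1 (letI := Module.Basis.invertibleToMatrix bM' bM; isUnit_of_invertible _)
    exact ((associated_mul_unit_left _ _ h3).trans (associated_unit_mul_left _ _ h1)).symm
  refine ⟨hassoc.ne_zero_iff.1 (Finset.prod_ne_zero_iff.2 fun i _ => hne i), ?_⟩
  rw [Nat.card_congr (Submodule.quotientEquivPiSpan (LinearMap.range u) bN hrk).toEquiv, Nat.card_pi,
    ← valuation_eq_of_associated hassoc, valuation_prod _ _ fun i _ => hne i, ← Finset.prod_pow_eq_pow_sum]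
  exact Finset.prod_congr rfl fun i _ => natCard_quotient_span _ (hne i)

end Groth.Agent.DegPolyLib
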