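import Groth.Prelude.Def_AbDual
import Groth.Agent.AVPtsLib.TateSeq
import Groth.Agent.DegPolyLib.DetVal

/-!
# The cokernel on Tate modules of a map surjective on points
-/

set_option autoImplicit false
set_option backward.isDefEq.respectTransparency false

universe u

open CategoryTheory CategoryTheory.Limits MonoidalCategory CartesianMonoidalCategory MonObj AlgebraicGeometry

noncomputable section

namespace Groth.Agent.DegPolyLib

variable {S : Scheme.{u}} {A B C T : Over S} [GrpObj A] [IsCommMonObj A] [GrpObj B] [IsCommMonObj B]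
  [GrpObj C] [IsCommMonObj C] {l : ℕ} [Fact l.Prime]

theorem tateMap_comp (f : A ⟶ B) [IsMonHom f] (g : B ⟶ C) [IsMonHom g] :
    (AbDual.tateMapₗ (l := l) (T := T) g).comp (AbDual.tateMapₗ (l := l) (T := T) f) =
      AbDual.tateMapₗ (l := l) (T := T) (f ≫ g) :=
  LinearMap.ext fun x => AbDual.TateMod.ext fun n => congrArg Additive.ofMul (Category.assoc _ f g)

theorem tateMap_npow (n : ℕ) [IsMonHom (𝟙 A ^ n)] :
    AbDual.tateMapₗ (l := l) (T := T) (𝟙 A ^ n) = (n : ℤ_[l]) • LinearMap.id := by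
  refine LinearMap.ext fun x => AbDual.TateMod.ext fun m => ?_
  rw [LinearMap.smul_apply, Nat.cast_smul_eq_nsmul]
  show Additive.ofMul (((x : ℕ → Additive (T ⟶ A)) m).toMul ≫ 𝟙 A ^ n) = n • (x : ℕ → Additive (T ⟶ A)) m
  rw [MonObj.comp_pow, Category.comp_id]
  rfl

/-- The cokernel order divides the order of the kernel on points. -/
theorem natCard_coker_dvd (f : A ⟶ B) [IsMonHom f] (hfin : Finite {x : T ⟶ A // x ≫ f = 1})
    (hsur : ∀ y : T ⟶ B, ∃ x, x ≫ f = y) (hdiv : ∀ x : T ⟶ A, ∃ z, z ^ l = x) :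
    Nat.card (AbDual.TateMod B l T ⧸ LinearMap.range (AbDual.tateMapₗ (l := l) (T := T) f)) ∣
      Nat.card {x : T ⟶ A // x ≫ f = 1} := by
  let fa : Additive (T ⟶ A) →+ Additive (T ⟶ B) := MonoidHom.toAdditive (IsMonHom.monoidHom f T)
  let eK : {x : T ⟶ A // x ≫ f = 1} ≃ fa.ker :=
    { toFun := fun x => ⟨Additive.ofMul x.1, congrArg Additive.ofMul x.2⟩
      invFun := fun x => ⟨x.1.toMul, congrArg Additive.toMul x.2⟩ }
  haveI : Finite fa.ker := Finite.of_equiv _ eK
  rw [Nat.card_congr eK]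
  obtain ⟨-, δ, hδ0, -⟩ := AVPtsLib.exists_tate_coker l fa.ker.subtype Subtype.val_injective fa
    (fun a => ⟨fun h => ⟨⟨a, h⟩, rfl⟩, by rintro ⟨x, rfl⟩; exact x.2⟩)
    (fun y => (hsur y.toMul).elim fun x hx => ⟨Additive.ofMul x, congrArg Additive.ofMul hx⟩)
    (fun a => (hdiv a.toMul).elim fun z hz => ⟨Additive.ofMul z, congrArg Additive.ofMul hz⟩)
  have hF : ∀ (x : AbDual.TateMod A l T) (n : ℕ), (AbDual.tateMapₗ (l := l) f x).1 n = fa (x.1 n) := fun _ _ => rfl
  let R := LinearMap.range (AbDual.tateMapₗ (l := l) (T := T) f)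
  let δ' : AbDual.TateMod B l T →+ fa.ker := AddMonoidHom.mk' (fun y => δ y) fun y z => map_add δ y z
  have hk : R.toAddSubgroup = δ'.ker := by
    ext y
    rw [AddMonoidHom.mem_ker]
    constructor
    · rintro ⟨x, rfl⟩
      exact (hδ0 _).2 ⟨x.1, x.2, fun n => (hF x n).symm⟩
    · intro h
      obtain ⟨x, hx, hxy⟩ := (hδ0 y).1 h
      exact ⟨⟨x, hx⟩, AbDual.TateMod.ext fun n => (hF _ n).trans (hxy n)⟩
  rw [show Nat.card (AbDual.TateMod B l T ⧸ LinearMap.range (AbDual.tateMapₗ (l := l) (T := T) f)) =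
      Nat.card δ'.range from Nat.card_congr ((QuotientAddGroup.quotientAddEquivOfEq hk).trans
    (QuotientAddGroup.quotientKerEquivRange δ')).toEquiv]
  exact AddSubgroup.card_addSubgroup_dvd_card _

end Groth.Agent.DegPolyLib
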