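import Groth.Agent.DegPolyLib.Mult
import Groth.Agent.DegPolyLib.CardKer
import Groth.Agent.DegPolyLib.Tate
import Groth.Agent.AVLib.TateKer
import Groth.Agent.AbDualLib.Subvar

/-!
# The `l`-part of the degree is the determinant on the Tate module
-/

set_option autoImplicit false
set_option backward.isDefEq.respectTransparency false
set_option linter.style.haveILetI false

universe u

open CategoryTheory CategoryTheory.Limits MonoidalCategory CartesianMonoidalCategory MonObj AlgebraicGeometry

noncomputable section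

namespace Groth.Agent.DegPolyLib

variable {K : Type u} [Field K] [IsAlgClosed K] {l : ℕ} [Fact l.Prime]

variable (K) in
/-- The unit object. -/
abbrev unitOb : Over (Spec (CommRingCat.of K)) := 𝟙_ _

variable {A B : Over (Spec (CommRingCat.of K))}
  [GrpObj A] [IsCommMonObj A] [IsProper A.hom] [GeometricallyIntegral A.hom]
  [GrpObj B] [IsCommMonObj B] [IsProper B.hom] [GeometricallyIntegral B.hom]
  {g : ℕ} (hA : topologicalKrullDim A.left = g) (hB : topologicalKrullDim B.left = g)
  {J : Type} [Fintype J] [DecidableEq J]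
  (bA : Module.Basis J ℤ_[l] (AbDual.TateMod A l (unitOb K))) (bB : Module.Basis J ℤ_[l] (AbDual.TateMod B l (unitOb K)))

/-- The determinant in the chosen bases. -/
abbrev detT (f : A ⟶ B) [IsMonHom f] : ℤ_[l] := (LinearMap.toMatrix bA bB (AbDual.tateMapₗ (l := l) (T := (unitOb K)) f)).det

variable (hl : (l : K) ≠ 0) (hcard : Fintype.card J = 2 * g)

theorem valuation_natCast (m : ℕ) : (m : ℤ_[l]).valuation = padicValNat l m := by
  have h := PadicInt.valuation_coe (m : ℤ_[l])
  rw [PadicInt.coe_natCast, Padic.valuation_natCast] at h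
  exact_mod_cast h.symm

include hl in
theorem detT_eq_zero_of_not_finite (f : A ⟶ B) [IsMonHom f] (hf : ¬ IsFinite f.left) : detT bA bB f = 0 :=
  det_eq_zero_of_not_injective bA bB _ fun h => hf ((AVLib.isFinite_iff_injective_tateMap l hl f).2 h)

include hA hB in
theorem valuation_le (hl : (l : K) ≠ 0) (f : A ⟶ B) [IsMonHom f] (hf : IsFinite f.left)
    (gm : B ⟶ A) [IsMonHom gm] {n : ℕ} (hn : 1 ≤ n) (hgm : gm ≫ f = 𝟙 B ^ n) :
    detT bA bB f ≠ 0 ∧ (detT bA bB f).valuation ≤ padicValNat l (deg f) := by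
  haveI : IsIntegral B.left := GeometricallyIntegral.isIntegral_of_subsingleton B.hom
  obtain ⟨h1, h2⟩ := natCard_coker bA bB _ ((AVLib.isFinite_iff_injective_tateMap l hl f).1 hf)
  refine ⟨h1, ?_⟩
  obtain ⟨hfin, hdvd⟩ := natCard_ker_dvd hA hB f hf (genericPoint B.left)
  have h3 := (natCard_coker_dvd (l := l) f hfin (fun y => by
      obtain ⟨z, hz⟩ := AVLib.exists_npow_eq (A := B) n hn y
      exact ⟨z ≫ gm, by rw [Category.assoc, hgm, MonObj.comp_pow, Category.comp_id, hz]⟩)
    (fun x => AVLib.exists_npow_eq (A := A) l (Fact.out : l.Prime).one_le x)).trans hdvd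
  rw [h2, ← deg_eq_finrank hA hB f hf] at h3
  exact (padicValNat_dvd_iff_le (fun h => ((deg_eq_zero_iff hA hB f).1 h) hf)).1 h3

include hA hB hl hcard in
/-- The valuation of the determinant is the valuation of the degree. -/
theorem valuation_detT (f : A ⟶ B) [IsMonHom f] (hf : IsFinite f.left) :
    detT bA bB f ≠ 0 ∧ (detT bA bB f).valuation = padicValNat l (deg f) := by
  haveI := hf
  haveI := AVLib.surjective_of_isFinite f (hA.trans hB.symm)
  obtain ⟨n, gm, hn, hgmm, hfgm, hgmf⟩ := AbDualLib.exists_dual A B f (hA.trans hB.symm)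
  haveI := hgmm
  haveI : IsMonHom (𝟙 A ^ n) := GrpSchLib.isMonHom_pow (𝟙 A) n
  have hgmfin : IsFinite gm.left := by
    by_contra h
    have h1 := deg_comp hA hB hA f gm
    rw [(deg_eq_zero_iff hB hA gm).2 h, mul_zero] at h1
    have h2 : deg (f ≫ gm) = n ^ (2 * g) := by
      rw [← deg_npow hA n hn]; simp only [hfgm]
    exact absurd (h2.symm.trans h1) (pow_pos hn _).ne'
  obtain ⟨a1, a2⟩ := valuation_le hA hB bA bB hl f hf gm hn hgmf
  obtain ⟨b1, b2⟩ := valuation_le hB hA bB bA hl gm hgmfin f hn hfgm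
  refine ⟨a1, le_antisymm a2 ?_⟩
  have hdet : detT bA bB f * detT bB bA gm = (n : ℤ_[l]) ^ (2 * g) := by
    have h1 : LinearMap.toMatrix bA bA ((n : ℤ_[l]) • (LinearMap.id : AbDual.TateMod A l (unitOb K) →ₗ[ℤ_[l]] _)) =
        LinearMap.toMatrix bB bA (AbDual.tateMapₗ (l := l) (T := (unitOb K)) gm) *
          LinearMap.toMatrix bA bB (AbDual.tateMapₗ (l := l) (T := (unitOb K)) f) := by
      rw [← LinearMap.toMatrix_comp bA bB bA, tateMap_comp (l := l), ← tateMap_npow (l := l)]
      simp only [hfgm]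
    have h2 := congrArg Matrix.det h1
    simp only [map_smul, LinearMap.toMatrix_id, Matrix.det_smul, Matrix.det_one, _root_.mul_one, Matrix.det_mul] at h2
    rw [_root_.mul_comm]
    refine h2.symm.trans ?_
    rw [hcard]
  have hd : deg f * deg gm = n ^ (2 * g) := by
    rw [← deg_comp hA hB hA, ← deg_npow hA n hn]; simp only [hfgm]
  have v1 := congrArg PadicInt.valuation hdet
  rw [PadicInt.valuation_mul a1 b1, ← Nat.cast_pow, valuation_natCast] at v1
  have v2 := congrArg (padicValNat l) hd
  rw [padicValNat.mul (fun h => (deg_eq_zero_iff hA hB f).1 h hf)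
    (fun h => (deg_eq_zero_iff hB hA gm).1 h hgmfin)] at v2
  omega

omit bA bB in
include hA hB hl hcard in
/-- The same for any presentation of the unit object. -/
theorem valuation_detT' (T : Over (Spec (CommRingCat.of K))) (hT : T = (unitOb K))
    (bA : Module.Basis J ℤ_[l] (AbDual.TateMod A l T)) (bB : Module.Basis J ℤ_[l] (AbDual.TateMod B l T))
    (f : A ⟶ B) [IsMonHom f] :
    (IsFinite f.left → (LinearMap.toMatrix bA bB (AbDual.tateMapₗ (l := l) (T := T) f)).det ≠ 0 ∧
      (LinearMap.toMatrix bA bB (AbDual.tateMapₗ (l := l) (T := T) f)).det.valuation = padicValNat l (deg f)) ∧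
    (¬ IsFinite f.left → (LinearMap.toMatrix bA bB (AbDual.tateMapₗ (l := l) (T := T) f)).det = 0) := by
  subst hT
  exact ⟨fun h => valuation_detT hA hB bA bB hl hcard f h, fun h => by
    have e := det_eq_zero_of_not_injective bA bB _ fun hi => h ((AVLib.isFinite_iff_injective_tateMap l hl f).2 hi)
    exact e⟩

end Groth.Agent.DegPolyLib
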