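import Mathlib
import Groth.Agent.DegPolyLib.Resultant

/-!
# A polynomial is determined by the norms of its resultants
-/

set_option autoImplicit false

noncomputable section

namespace Groth.Agent.DegPolyLib

open Polynomial

section Counts

variable {K E : Type*} [Field K] [Field E] [IsAlgClosed E] [Algebra K E]

open scoped Classical in
/-- The number of roots of `p` killed by `g`. -/
def cnt (p g : K[X]) : ℕ := (p.map (algebraMap K E)).roots.countP fun ω => aeval ω g = 0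

theorem cnt_mul {p q : K[X]} (hp : p ≠ 0) (hq : q ≠ 0) (g : K[X]) :
    cnt (E := E) (p * q) g = cnt (E := E) p g + cnt (E := E) q g := by
  classical
  rw [cnt, Polynomial.map_mul, roots_mul (mul_ne_zero (map_ne_zero hp) (map_ne_zero hq)), Multiset.countP_add]
  rfl

theorem cnt_pos_of_dvd {p g : K[X]} (hp : p ≠ 0) (hg : 0 < g.natDegree) (h : g ∣ p) : 0 < cnt (E := E) p g := by
  obtain ⟨ω, hω⟩ := IsAlgClosed.exists_aeval_eq_zero E g
    (fun h0 => by rw [natDegree_eq_zero_iff_degree_le_zero.2 h0.le] at hg; exact lt_irrefl _ hg)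
  classical
  refine Multiset.countP_pos.2 ⟨ω, ?_, hω⟩
  rw [mem_roots_map_of_injective (algebraMap K E).injective hp, ← aeval_def]
  obtain ⟨q, rfl⟩ := h
  rw [map_mul, hω, zero_mul]

theorem dvd_of_cnt_pos {p g : K[X]} (hp : p ≠ 0) (hg : Irreducible g) (h : 0 < cnt (E := E) p g) : g ∣ p := by
  classical
  obtain ⟨ω, hω, h0⟩ := Multiset.countP_pos.1 h
  rw [mem_roots_map_of_injective (algebraMap K E).injective hp, ← aeval_def] at hω
  have e := minpoly.eq_of_irreducible hg h0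
  exact dvd_trans (Dvd.intro _ e) (minpoly.dvd K ω hω)

/-- Monic polynomials with the same counts are equal. -/
theorem eq_of_cnt : ∀ (n : ℕ) (p q : K[X]), p.natDegree + q.natDegree ≤ n → p.Monic → q.Monic →
    (∀ g : K[X], g.Monic → Irreducible g → (g ∣ p ∨ g ∣ q) → cnt (E := E) p g = cnt (E := E) q g) → p = q := by
  intro n
  induction n with
  | zero =>
    intro p q h hp hq _
    rw [hp.natDegree_eq_zero.1 (by omega), hq.natDegree_eq_zero.1 (by omega)]
  | succ n ih =>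
    intro p q h hp hq hc
    by_cases h0 : p.natDegree = 0 ∧ q.natDegree = 0
    · rw [hp.natDegree_eq_zero.1 h0.1, hq.natDegree_eq_zero.1 h0.2]
    obtain ⟨g, hgm, hgi, hg⟩ : ∃ g : K[X], g.Monic ∧ Irreducible g ∧ (g ∣ p ∨ g ∣ q) := by
      have : (p ≠ 1) ∨ (q ≠ 1) := by
        by_contra h1
        push Not at h1
        exact h0 (by rw [h1.1, h1.2]; simp)
      rcases this with h1 | h1
      · obtain ⟨g, a, b, c⟩ := exists_monic_irreducible_factor p fun hu => h1 (hp.isUnit_iff.1 hu)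
        exact ⟨g, a, b, .inl c⟩
      · obtain ⟨g, a, b, c⟩ := exists_monic_irreducible_factor q fun hu => h1 (hq.isUnit_iff.1 hu)
        exact ⟨g, a, b, .inr c⟩
    have hd := hgi.natDegree_pos
    have e := hc g hgm hgi hg
    have both : g ∣ p ∧ g ∣ q := by
      rcases hg with h1 | h1
      · exact ⟨h1, dvd_of_cnt_pos hq.ne_zero hgi (e ▸ cnt_pos_of_dvd (E := E) hp.ne_zero hd h1)⟩
      · exact ⟨dvd_of_cnt_pos hp.ne_zero hgi (e.symm ▸ cnt_pos_of_dvd (E := E) hq.ne_zero hd h1), h1⟩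
    obtain ⟨⟨p', rfl⟩, ⟨q', rfl⟩⟩ := both
    have hp' : p'.Monic := hgm.of_mul_monic_left hp
    have hq' : q'.Monic := hgm.of_mul_monic_left hq
    rw [hgm.natDegree_mul hp', hgm.natDegree_mul hq'] at h
    rw [ih p' q' (by omega) hp' hq' fun g' hm hi hg' => ?_]
    have := hc g' hm hi (hg'.imp (fun hh => hh.trans (dvd_mul_left _ _)) fun hh => hh.trans (dvd_mul_left _ _))
    rw [cnt_mul hgm.ne_zero hp'.ne_zero, cnt_mul hgm.ne_zero hq'.ne_zero] at this
    omega

end Counts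

variable {l : ℕ} [Fact l.Prime]

open Filter Topology in
/-- The order at zero is read off the norms at powers of `l`. -/
theorem rootMultiplicity_le_of_norm (R S : ℚ_[l][X]) (hR : R ≠ 0)
    (h : ∀ t : ℕ, ‖R.eval ((l : ℚ_[l]) ^ t)‖ = ‖S.eval ((l : ℚ_[l]) ^ t)‖) :
    S.rootMultiplicity 0 ≤ R.rootMultiplicity 0 := by
  by_contra hlt
  push Not at hlt
  obtain ⟨R', hR', hR'0⟩ := exists_eq_pow_rootMultiplicity_mul_and_not_dvd R hR 0
  obtain ⟨S', hS'⟩ := pow_rootMultiplicity_dvd S 0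
  rw [C_0, sub_zero] at hR' hR'0 hS'
  set a := R.rootMultiplicity 0
  set b := S.rootMultiplicity 0
  have hr0 : R'.eval 0 ≠ 0 := fun h0 => hR'0 (by rwa [X_dvd_iff, coeff_zero_eq_eval_zero])
  have hl0 : (l : ℚ_[l]) ≠ 0 := Nat.cast_ne_zero.2 (Fact.out : l.Prime).ne_zero
  have key : ∀ t : ℕ, ‖R'.eval ((l : ℚ_[l]) ^ t)‖ = ‖(((l : ℚ_[l]) ^ t) ^ (b - a)) * S'.eval ((l : ℚ_[l]) ^ t)‖ := by
    intro t
    have h1 := h t
    rw [hR', hS', show b = a + (b - a) by omega] at h1
    simp only [eval_mul, eval_pow, eval_X, pow_add, norm_mul, mul_assoc] at h1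
    rw [mul_left_cancel₀ (norm_ne_zero_iff.2 (pow_ne_zero _ (pow_ne_zero _ hl0))) h1, norm_mul]
  have hlim : Tendsto (fun t : ℕ => (l : ℚ_[l]) ^ t) atTop (𝓝 0) :=
    tendsto_pow_atTop_nhds_zero_of_norm_lt_one Padic.norm_p_lt_one
  have l1 : Tendsto (fun t : ℕ => ‖R'.eval ((l : ℚ_[l]) ^ t)‖) atTop (𝓝 ‖R'.eval 0‖) :=
    ((R'.continuous.tendsto 0).comp hlim).norm
  have l2 : Tendsto (fun t : ℕ => ‖(((l : ℚ_[l]) ^ t) ^ (b - a)) * S'.eval ((l : ℚ_[l]) ^ t)‖) atTop (𝓝 0) := by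
    have h2 := ((((continuous_pow (b - a)).mul S'.continuous).tendsto 0).comp hlim).norm
    rwa [Pi.mul_apply, zero_pow (by omega), zero_mul, norm_zero] at h2
  rw [← funext key] at l2
  exact hr0 (norm_eq_zero.1 (tendsto_nhds_unique l1 l2))

variable (E : Type*) [Field E] [CharZero E] [IsAlgClosed E] [Algebra ℚ_[l] E]

open scoped Classical in
theorem cnt_eq_rootMultiplicity (P g : ℚ_[l][X]) (R : ℚ_[l][X])
    (hR : R.map (algebraMap ℚ_[l] E) =
      ((P.map (algebraMap ℚ_[l] E)).roots.map fun ω => X - C (-(aeval ω g))).prod) :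
    cnt (E := E) P g = R.rootMultiplicity 0 := by
  rw [eq_rootMultiplicity_map (algebraMap ℚ_[l] E).injective 0, map_zero, hR, ← count_roots,
    show (P.map (algebraMap ℚ_[l] E)).roots.map (fun ω => X - C (-(aeval ω g))) =
      ((P.map (algebraMap ℚ_[l] E)).roots.map fun ω => -(aeval ω g)).map (fun y => X - C y) from
        by rw [Multiset.map_map]; rfl, roots_multiset_prod_X_sub_C,
    Multiset.count_map, cnt, Multiset.countP_eq_card_filter]
  refine congrArg Multiset.card (Multiset.filter_congr fun ω _ => ?_)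
  rw [eq_comm (a := (0 : E)), neg_eq_zero]

theorem exists_line (P : ℚ_[l][X]) (hP : P.Monic) (hev : Even P.natDegree) (g : ℚ_[l][X]) (hg : g.Monic) {d : ℕ}
    (hd : g.natDegree = d + 1) (N : MvPolynomial (Fin (d + 1)) ℚ_[l])
    (hN : ∀ c : Fin (d + 1) → ℤ,
      MvPolynomial.eval (splitCoef fun i => (c i : ℚ_[l])) N = ∏ i, P.eval (-(c i : ℚ_[l]))) :
    ∃ R : ℚ_[l][X], cnt (E := E) P g = R.rootMultiplicity 0 ∧ R ≠ 0 ∧
      ∀ y, R.eval y = MvPolynomial.eval (fun j : Fin (d + 1) => g.coeff j + if j = 0 then y else 0) N := by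
  classical
  let R : ℚ_[l][X] := MvPolynomial.aeval
    (fun j : Fin (d + 1) => C (g.coeff j) + if j = 0 then X else 0) N
  have hev' : ∀ y, R.eval y = MvPolynomial.eval (fun j : Fin (d + 1) => g.coeff j + if j = 0 then y else 0) N := by
    intro y
    show (Polynomial.aeval y) (MvPolynomial.aeval _ N) = _
    rw [← AlgHom.comp_apply, MvPolynomial.comp_aeval, MvPolynomial.aeval_eq_eval]
    congr 2
    funext j
    split_ifs <;> simp
  have hmap : R.map (algebraMap ℚ_[l] E) =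
      ((P.map (algebraMap ℚ_[l] E)).roots.map fun ω => X - C (-(aeval ω g))).prod := by
    refine eq_of_infinite_eval_eq _ _ ((Set.infinite_range_of_injective (algebraMap ℚ_[l] E).injective).mono ?_)
    rintro _ ⟨y, rfl⟩
    show Polynomial.eval _ _ = Polynomial.eval _ _
    rw [eval_map, eval₂_at_apply, hev', eval_eq_prod_roots (E := E) P hP hev N hN, eval_multiset_prod, Multiset.map_map]
    refine congrArg Multiset.prod (Multiset.map_congr rfl fun ω _ => ?_)
    have hga : aeval ω g = ω ^ (d + 1) + ∑ j : Fin (d + 1), algebraMap ℚ_[l] E (g.coeff j) * ω ^ (j : ℕ) := by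
      rw [aeval_eq_sum_range, hd, Finset.sum_range_succ, ← hd, hg.coeff_natDegree, hd, one_smul, add_comm]
      congr 1
      rw [← Fin.sum_univ_eq_sum_range (fun j => g.coeff j • ω ^ j)]
      simp [Algebra.smul_def]
    simp only [Function.comp_apply, eval_sub, eval_X, eval_C, sub_neg_eq_add, map_add, add_mul,
      Finset.sum_add_distrib, apply_ite (algebraMap ℚ_[l] E), map_zero, ite_mul, zero_mul, Finset.sum_ite_eq',
      Finset.mem_univ, if_true, Fin.val_zero, pow_zero, mul_one, hga]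
    ring
  refine ⟨R, cnt_eq_rootMultiplicity E P g R hmap, fun h0 => ?_, hev'⟩
  rw [h0, Polynomial.map_zero, eq_comm, Multiset.prod_eq_zero_iff] at hmap
  obtain ⟨ω, -, hω⟩ := Multiset.mem_map.1 hmap
  exact X_sub_C_ne_zero _ hω

include E in
/-- Two monic polynomials over `ℤ_l` whose resultants with every form have equal norms are equal. -/
theorem padic_eq (P χ : ℤ_[l][X]) (hP : P.Monic) (hχ : χ.Monic) (hPe : Even P.natDegree) (hχe : Even χ.natDegree)
    (h : ∀ d : ℕ, ∃ N D : MvPolynomial (Fin d) ℚ_[l],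
      (∀ c : Fin d → ℤ, MvPolynomial.eval (splitCoef fun i => (c i : ℚ_[l])) N =
        ∏ i, (P.map (algebraMap ℤ_[l] ℚ_[l])).eval (-(c i : ℚ_[l]))) ∧
      (∀ c : Fin d → ℤ, MvPolynomial.eval (splitCoef fun i => (c i : ℚ_[l])) D =
        ∏ i, (χ.map (algebraMap ℤ_[l] ℚ_[l])).eval (-(c i : ℚ_[l]))) ∧
      ∀ a : Fin d → ℤ, ‖MvPolynomial.eval (fun j => (a j : ℚ_[l])) N‖ = ‖MvPolynomial.eval (fun j => (a j : ℚ_[l])) D‖) :
    P = χ := by
  have hinj : Function.Injective (algebraMap ℤ_[l] ℚ_[l]) := FaithfulSMul.algebraMap_injective _ _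
  refine Polynomial.map_injective _ hinj (eq_of_cnt (E := E) _ _ _ le_rfl (hP.map _) (hχ.map _) ?_)
  intro g hgm hgi hg
  obtain ⟨g', hg'⟩ : ∃ g' : ℤ_[l][X], g'.map (algebraMap ℤ_[l] ℚ_[l]) = g := by
    rcases hg with h1 | h1
    · obtain ⟨g', e⟩ := IsIntegrallyClosed.eq_map_mul_C_of_dvd ℚ_[l] hP h1
      exact ⟨g', by rwa [hgm.leadingCoeff, C_1, mul_one] at e⟩
    · obtain ⟨g', e⟩ := IsIntegrallyClosed.eq_map_mul_C_of_dvd ℚ_[l] hχ h1
      exact ⟨g', by rwa [hgm.leadingCoeff, C_1, mul_one] at e⟩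
  obtain ⟨d, hd⟩ : ∃ d, g.natDegree = d + 1 := ⟨g.natDegree - 1, by have := hgi.natDegree_pos; omega⟩
  obtain ⟨N, D, hN, hD, hnorm⟩ := h (d + 1)
  obtain ⟨RN, cN, nN, eN⟩ := exists_line E _ (hP.map _) (by rwa [hP.natDegree_map]) g hgm hd N hN
  obtain ⟨RD, cD, nD, eD⟩ := exists_line E _ (hχ.map _) (by rwa [hχ.natDegree_map]) g hgm hd D hD
  have hcont : ∀ Q : MvPolynomial (Fin (d + 1)) ℚ_[l],
      Continuous fun a : Fin (d + 1) → ℤ_[l] => ‖MvPolynomial.eval (fun j => (a j : ℚ_[l])) Q‖ := fun Q =>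
    ((MvPolynomial.continuous_eval Q).comp (continuous_pi fun j => continuous_subtype_val.comp (continuous_apply j))).norm
  have hall := DenseRange.equalizer
    (DenseRange.piMap fun _ : Fin (d + 1) => PadicInt.denseRange_intCast (p := l)) (hcont N) (hcont D)
    (funext fun a => by simpa [Pi.map] using hnorm a)
  have key : ∀ t : ℕ, ‖RN.eval ((l : ℚ_[l]) ^ t)‖ = ‖RD.eval ((l : ℚ_[l]) ^ t)‖ := fun t => by
    rw [eN, eD]
    have h1 := congrFun hall fun j => g'.coeff j + if j = 0 then (l : ℤ_[l]) ^ t else 0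
    have e : (fun j : Fin (d + 1) => ((g'.coeff j + if j = 0 then (l : ℤ_[l]) ^ t else 0 : ℤ_[l]) : ℚ_[l])) =
        fun j : Fin (d + 1) => g.coeff j + if j = 0 then (l : ℚ_[l]) ^ t else 0 := funext fun j => by
      rw [← hg', Polynomial.coeff_map]
      split_ifs <;> simp
    rwa [e] at h1
  rw [cN, cD]
  exact le_antisymm (rootMultiplicity_le_of_norm RD RN nD fun t => (key t).symm)
    (rootMultiplicity_le_of_norm RN RD nN key)

end Groth.Agent.DegPolyLib
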