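import Groth.Agent.DegPolyLib.EndDeg
import Groth.Agent.DegPolyLib.PadicDeg
import Groth.Agent.DegPolyLib.PadicEq
import Groth.Agent.DegPolyLib.MatDet
import Groth.Prelude.Def_EndTate

/-!
# The degree is the determinant on the Tate module
-/

set_option autoImplicit false
set_option backward.isDefEq.respectTransparency false
set_option linter.style.haveILetI false
set_option synthInstance.maxHeartbeats 400000
set_option maxHeartbeats 1000000

universe u

open CategoryTheory CategoryTheory.Limits MonoidalCategory CartesianMonoidalCategory MonObj AlgebraicGeometry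
open Polynomial (C X)

noncomputable section

namespace Groth.Agent.DegPolyLib

variable {K : Type u} [Field K] [IsAlgClosed K] {l : ℕ} [Fact l.Prime] (hl : (l : K) ≠ 0)
  {A : Over (Spec (CommRingCat.of K))} [GrpObj A] [IsCommMonObj A] [IsProper A.hom] [GeometricallyIntegral A.hom]
  {g : ℕ} (hA : topologicalKrullDim A.left = g)
  {T : Over (Spec (CommRingCat.of K))} (hT : T = unitOb K)

include hl hA hT in
theorem finrank_tate : Module.Free ℤ_[l] (AbDual.TateMod A l T) ∧ Module.Finite ℤ_[l] (AbDual.TateMod A l T) ∧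
    Module.finrank ℤ_[l] (AbDual.TateMod A l T) = 2 * g := by
  subst hT
  refine AVLib.free_tateMod (r := 2 * g) (fun x => ?_) (fun n => ?_)
  · obtain ⟨b, hb⟩ := AVLib.exists_npow_eq (A := A) l (Fact.out : l.Prime).one_le x.toMul
    exact ⟨Additive.ofMul b, congrArg Additive.ofMul hb⟩
  · exact (Nat.card_congr (Equiv.subtypeEquiv Additive.toMul fun _ => Iff.rfl)).trans
      ((AVLib.natCard_pow_eq_one (A := A) hA (l ^ n) (by rw [Nat.cast_pow]; exact pow_ne_zero _ hl)).2)

theorem norm_natCast_eq (m : ℕ) (hm : m ≠ 0) (x : ℤ_[l]) (hx : x ≠ 0) (hv : x.valuation = padicValNat l m) :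
    ‖(m : ℚ_[l])‖ = ‖(x : ℚ_[l])‖ := by
  have h1 : (m : ℚ_[l]) ≠ 0 := Nat.cast_ne_zero.2 hm
  rw [← PadicInt.norm_def, PadicInt.norm_eq_zpow_neg_valuation hx, hv, Padic.norm_eq_zpow_neg_valuation h1,
    Padic.valuation_natCast]

include hl hA hT in
/-- The characteristic polynomial on the Tate module is the degree polynomial. -/
theorem charpoly_eq (φ : EndAV.End A) (P : Polynomial ℤ)
    (hP : ∀ n : ℤ, P.eval n = (degE (φ - ((n : ℤ) : EndAV.End A)) : ℤ))
    [Module.Free ℤ_[l] (AbDual.TateMod A l T)] [Module.Finite ℤ_[l] (AbDual.TateMod A l T)] :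
    (EndAV.End.tateRep l T φ).charpoly = P.map (Int.castRingHom ℤ_[l]) := by
  classical
  obtain ⟨-, -, hrk⟩ := finrank_tate hl hA hT
  obtain ⟨P₀, hm, hd, hP₀⟩ := exists_charPZ hA φ
  obtain rfl : P = P₀ := Polynomial.eq_of_infinite_eval_eq _ _ (by
    simpa [hP, hP₀] using Set.infinite_univ (α := ℤ))
  let b : Module.Basis (Fin (2 * g)) ℤ_[l] (AbDual.TateMod A l T) :=
    (Module.finBasis ℤ_[l] (AbDual.TateMod A l T)).reindex (finCongr hrk)
  let ρ : EndAV.End A →+* Matrix (Fin (2 * g)) (Fin (2 * g)) ℤ_[l] :=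
    ((LinearMap.toMatrixAlgEquiv b).toRingEquiv.toRingHom).comp (EndAV.End.tateRep l T)
  set M := ρ φ with hM
  rw [show (EndAV.End.tateRep l T φ).charpoly = M.charpoly from (LinearMap.charpoly_toMatrix _ b).symm]
  have hnd : M.charpoly.natDegree = 2 * g := by rw [Matrix.charpoly_natDegree_eq_dim, Fintype.card_fin]
  refine padic_eq (AlgebraicClosure ℚ_[l]) M.charpoly (P.map (Int.castRingHom ℤ_[l])) (M.charpoly_monic)
    (hm.map _) (by rw [hnd]; exact even_two_mul g) (by rw [hm.natDegree_map, hd]; exact even_two_mul g) fun d => ?_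
  obtain ⟨N, hN⟩ := exists_monicForm hA φ d
  obtain ⟨D, hD⟩ := exists_detForm M d
  refine ⟨MvPolynomial.map (algebraMap ℤ_[l] ℚ_[l]) D, MvPolynomial.map (algebraMap ℚ ℚ_[l]) N,
    fun c => ?_, fun c => ?_, fun a => ?_⟩
  · have e : (splitCoef fun i => (c i : ℚ_[l])) = algebraMap ℤ_[l] ℚ_[l] ∘ splitCoef (fun i => (c i : ℤ_[l])) :=
      funext fun j => by simp [splitCoef_map]
    rw [e, MvPolynomial.eval_map, ← MvPolynomial.eval₂_comp, hD, det_split M (by simp), map_prod]
    refine Finset.prod_congr rfl fun i _ => ?_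
    rw [← Polynomial.eval₂_at_apply, ← Polynomial.eval_map, map_neg, map_intCast]
  · have e : (splitCoef fun i => (c i : ℚ_[l])) = algebraMap ℚ ℚ_[l] ∘ fun j => ((splitCoef c j : ℤ) : ℚ) :=
      funext fun j => by
        show splitCoef (fun i => (c i : ℚ_[l])) j = algebraMap ℚ ℚ_[l] (Int.castRingHom ℚ (splitCoef c j))
        rw [← RingHom.comp_apply, splitCoef_map]
        simp
    rw [e, MvPolynomial.eval_map, ← MvPolynomial.eval₂_comp, hN, degE_split hA φ (P.map (Int.castRingHom ℚ))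
      (fun n => by rw [Polynomial.eval_intCast_map, hP]; simp) c, map_prod]
    refine Finset.prod_congr rfl fun i _ => ?_
    rw [← Int.cast_neg, ← Int.cast_neg, Polynomial.eval_intCast_map, Polynomial.map_map,
      RingHom.ext_int ((algebraMap ℤ_[l] ℚ_[l]).comp (Int.castRingHom ℤ_[l])) (Int.castRingHom ℚ_[l]),
      Polynomial.eval_intCast_map]
    simp
  · have ea : (fun j => (a j : ℚ_[l])) = algebraMap ℤ_[l] ℚ_[l] ∘ fun j => (a j : ℤ_[l]) := funext fun j => by simp
    have eb : (fun j => (a j : ℚ_[l])) = algebraMap ℚ ℚ_[l] ∘ fun j => (a j : ℚ) := funext fun j => by simp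
    conv_lhs => rw [ea, MvPolynomial.eval_map, ← MvPolynomial.eval₂_comp, hD]
    conv_rhs => rw [eb, MvPolynomial.eval_map, ← MvPolynomial.eval₂_comp, hN, map_natCast]
    set ψ := φ ^ d + ∑ j : Fin d, a j • φ ^ (j : ℕ) with hψ
    have eρ : M ^ d + ∑ j : Fin d, (a j : ℤ_[l]) • M ^ (j : ℕ) = ρ ψ := by
      rw [hψ, map_add, map_pow, map_sum, hM]
      congr 1
      refine Finset.sum_congr rfl fun j _ => ?_
      rw [map_zsmul, map_pow, Int.cast_smul_eq_zsmul]
    rw [eρ]
    have hdet : (ρ ψ).det = (LinearMap.toMatrix b b (AbDual.tateMapₗ (l := l) (T := T) ψ.toHom)).det := rfl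
    rw [hdet]
    obtain ⟨h1, h2⟩ := valuation_detT' hA hA hl (by simp) T hT b b ψ.toHom
    by_cases hf : IsFinite ψ.toHom.left
    · obtain ⟨h3, h4⟩ := h1 hf
      exact (norm_natCast_eq _ (fun h0 => (deg_eq_zero_iff hA hA _).1 h0 hf) _ h3 h4).symm
    · rw [h2 hf, show degE ψ = 0 from (deg_eq_zero_iff hA hA _).2 hf]
      simp

include hl hA hT in
/-- The degree is the determinant. -/
theorem deg_eq_det (φ : EndAV.End A) [Module.Free ℤ_[l] (AbDual.TateMod A l T)]
    [Module.Finite ℤ_[l] (AbDual.TateMod A l T)] :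
    (degE φ : ℤ_[l]) = LinearMap.det (EndAV.End.tateRep l T φ) := by
  obtain ⟨-, -, hrk⟩ := finrank_tate hl hA hT
  obtain ⟨P, -, -, hP⟩ := exists_charPZ hA φ
  rw [LinearMap.det_eq_sign_charpoly_coeff, hrk, Even.neg_one_pow (even_two_mul g), _root_.one_mul,
    charpoly_eq hl hA hT φ P hP, Polynomial.coeff_map, Polynomial.coeff_zero_eq_eval_zero, hP, Int.cast_zero, sub_zero]
  simp

end Groth.Agent.DegPolyLib
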