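import Groth.Agent.AVPtsLib.BC
import Groth.Agent.DegPolyLib.DetTate
import Groth.Agent.EtAlgEasy.MorFibre

/-!
# The degree and the Tate module under extension of the ground field
-/

set_option autoImplicit false
set_option backward.isDefEq.respectTransparency false
set_option linter.style.haveILetI false
set_option synthInstance.maxHeartbeats 400000
set_option maxHeartbeats 1000000

universe u

open CategoryTheory CategoryTheory.Limits MonoidalCategory CartesianMonoidalCategory MonObj AlgebraicGeometry
open Groth.Agent.AVPtsLib (bcMap bcPt bcObj ptsEquiv ptsEquiv_comp)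

noncomputable section

namespace Groth.Agent.DegPolyLib

variable {k : Type u} [Field k] (K : Type u) [Field K] [Algebra k K]
  {A : Over (Spec (CommRingCat.of k))} [GrpObj A] [IsCommMonObj A] (l : ℕ) [Fact l.Prime]

/-- Tate modules of points in an extension. -/
def tateEquiv : AbDual.TateMod A l (bcPt K) ≃ₗ[ℤ_[l]]
    AbDual.TateMod (bcObj K A) l (unitOb K) :=
  let e := MulEquiv.toAdditive (ptsEquiv (A := A) K)
  { toFun := fun x => ⟨fun n => e (x.1 n), ⟨fun n => by rw [← map_nsmul, x.torsion n, map_zero],
      fun n => by rw [← map_nsmul, x.compat n]⟩⟩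
    invFun := fun x => ⟨fun n => e.symm (x.1 n), ⟨fun n => by rw [← map_nsmul, x.torsion n, map_zero],
      fun n => by rw [← map_nsmul, x.compat n]⟩⟩
    map_add' := fun x y => AbDual.TateMod.ext fun n => map_add e _ _
    map_smul' := fun a x => AbDual.TateMod.ext fun n => map_nsmul e _ _
    left_inv := fun x => AbDual.TateMod.ext fun n => e.symm_apply_apply _
    right_inv := fun x => AbDual.TateMod.ext fun n => e.apply_symm_apply _ }

theorem tateEquiv_conj (f : A ⟶ A) [IsMonHom f] :
    (tateEquiv (A := A) K l).toLinearMap ∘ₗ AbDual.tateMapₗ (l := l) (T := bcPt K) f ∘ₗ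
        (tateEquiv (A := A) K l).symm.toLinearMap =
      AbDual.tateMapₗ (A := bcObj K A) (B := bcObj K A) (l := l) (T := unitOb K)
        ((Over.pullback (bcMap K)).map f) := by
  refine LinearMap.ext fun x => AbDual.TateMod.ext fun n => ?_
  show Additive.ofMul (ptsEquiv K (((((tateEquiv (A := A) K l).symm x : AbDual.TateMod A l (bcPt K)) :
    ℕ → Additive (bcPt K ⟶ A)) n).toMul ≫ f)) = _
  rw [ptsEquiv_comp]
  exact congrArg (fun z => Additive.ofMul (z ≫ (Over.pullback (bcMap K)).map f))
    ((ptsEquiv (A := A) K).apply_symm_apply (x.1 n).toMul)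

variable [IsProper A.hom] [GeometricallyIntegral A.hom]

theorem dim_bc {g : ℕ} (hA : topologicalKrullDim A.left = g) : topologicalKrullDim (bcObj K A).left = g := by
  haveI : Subsingleton ↥(Spec (CommRingCat.of k)) := inferInstanceAs (Subsingleton (PrimeSpectrum k))
  haveI : Subsingleton ↥(Spec (CommRingCat.of K)) := inferInstanceAs (Subsingleton (PrimeSpectrum K))
  rw [← hA]
  exact EtAlgEasy.MorFibre.topologicalKrullDim_baseChange (IsPullback.of_hasPullback A.hom (bcMap K))

/-- The degree is unchanged by extension of the ground field. -/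
theorem deg_bc {g : ℕ} (hA : topologicalKrullDim A.left = g) (f : A ⟶ A) [IsMonHom f] :
    deg (A := bcObj K A) (B := bcObj K A) ((Over.pullback (bcMap K)).map f) = deg f := by
  have hA' := dim_bc K hA
  set f' := (Over.pullback (bcMap K)).map f with hf'
  have hsq : IsPullback f'.left (pullback.fst A.hom (bcMap K)) (pullback.fst A.hom (bcMap K)) f.left := by
    refine IsPullback.of_right ?_ (by simp [f', Over.pullback_map_left]) (IsPullback.of_hasPullback A.hom (bcMap K)).flip
    simpa [f', Over.pullback_map_left] using (IsPullback.of_hasPullback A.hom (bcMap K)).flip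
  haveI : Surjective (bcMap (k := k) K) :=
    ⟨fun x => ⟨IsLocalRing.closedPoint K, Subsingleton.elim (α := PrimeSpectrum k) _ _⟩⟩
  haveI : IsIntegral A.left := GeometricallyIntegral.isIntegral_of_subsingleton A.hom
  haveI : IsIntegral (bcObj K A).left := GeometricallyIntegral.isIntegral_of_subsingleton (bcObj K A).hom
  by_cases hf : IsFinite f.left
  · haveI := hf
    haveI := (AVLib.flat_iff_isFinite f (hA.trans hA.symm)).2 hf
    haveI : IsLocallyNoetherian A.left := LocallyOfFiniteType.isLocallyNoetherian A.hom
    haveI : LocallyOfFinitePresentation f.left := inferInstance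
    haveI : IsFinite f'.left := MorphismProperty.of_isPullback hsq.flip hf
    rw [deg_eq_finrank hA' hA' f' inferInstance (genericPoint _), deg_eq_finrank hA hA f hf (genericPoint A.left)]
    haveI : PreconnectedSpace A.left := inferInstance
    refine (Scheme.Hom.finrank_of_isPullback _ _ _ _ hsq.flip _).trans ?_
    exact f.left.isLocallyConstant_finrank.apply_eq_of_preconnectedSpace _ _
  · rw [(deg_eq_zero_iff hA hA f).2 hf, deg_eq_zero_iff hA' hA']
    intro hf2
    haveI := hf2
    haveI := AVLib.surjective_of_isFinite f' (hA'.trans hA'.symm)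
    haveI : Surjective (pullback.fst A.hom (bcMap K)) := inferInstance
    haveI : Surjective (f'.left ≫ pullback.fst A.hom (bcMap K)) := MorphismProperty.comp_mem _ _ _ inferInstance inferInstance
    haveI : Surjective f.left := by
      refine ⟨fun y => ?_⟩
      obtain ⟨x, hx⟩ := (f'.left ≫ pullback.fst A.hom (bcMap K)).surjective y
      rw [hsq.w, Scheme.Hom.comp_apply] at hx
      exact ⟨_, hx⟩
    exact hf (AVLib.isFinite_flat_of_surjective f (hA.trans hA.symm)).1

end Groth.Agent.DegPolyLib

namespace Groth.Agent.DegPolyLib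

variable {k : Type u} [Field k] (K : Type u) [Field K] [Algebra k K] [IsAlgClosed K]
  {A : Over (Spec (CommRingCat.of k))} [GrpObj A] [IsCommMonObj A] [IsProper A.hom] [GeometricallyIntegral A.hom]

/-- The endomorphism after extension of the ground field. -/
abbrev bcEnd (f : A ⟶ A) [IsMonHom f] : EndAV.End (bcObj K A) :=
  EndAV.End.of (A := bcObj K A) ((Over.pullback (bcMap K)).map f)

/-- The characteristic polynomial on the Tate module of points in an extension. -/
theorem charpoly_bc (l : ℕ) [Fact l.Prime] (hl : (l : k) ≠ 0) {g : ℕ} (hA : topologicalKrullDim A.left = g)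
    (f : A ⟶ A) [IsMonHom f] (P : Polynomial ℤ)
    (hP : ∀ n : ℤ, P.eval n = (degE (bcEnd K f - ((n : ℤ) : EndAV.End (bcObj K A))) : ℤ))
    [Module.Free ℤ_[l] (AbDual.TateMod A l (bcPt K))] [Module.Finite ℤ_[l] (AbDual.TateMod A l (bcPt K))] :
    (AbDual.tateMapₗ (l := l) (T := bcPt K) f).charpoly = P.map (Int.castRingHom ℤ_[l]) := by
  have hl' : (l : K) ≠ 0 := by
    rw [← map_natCast (algebraMap k K), ne_eq, map_eq_zero]
    exact hl
  obtain ⟨h1, h2, -⟩ := finrank_tate (T := unitOb K) hl' (dim_bc K hA) rfl
  haveI := h1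
  haveI := h2
  rw [← (tateEquiv (A := A) K l).charpoly_conj, ← charpoly_eq (T := unitOb K) hl' (dim_bc K hA) rfl (bcEnd K f) P hP]
  exact congrArg LinearMap.charpoly (tateEquiv_conj K l f)

/-- The degree is the determinant on the Tate module of points in an extension. -/
theorem det_bc (l : ℕ) [Fact l.Prime] (hl : (l : k) ≠ 0) {g : ℕ} (hA : topologicalKrullDim A.left = g)
    (f : A ⟶ A) [IsMonHom f]
    [Module.Free ℤ_[l] (AbDual.TateMod A l (bcPt K))] [Module.Finite ℤ_[l] (AbDual.TateMod A l (bcPt K))] :
    (deg f : ℤ_[l]) = LinearMap.det (AbDual.tateMapₗ (l := l) (T := bcPt K) f) := by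
  have hl' : (l : K) ≠ 0 := by
    rw [← map_natCast (algebraMap k K), ne_eq, map_eq_zero]
    exact hl
  obtain ⟨h1, h2, -⟩ := finrank_tate (T := unitOb K) hl' (dim_bc K hA) rfl
  haveI := h1
  haveI := h2
  rw [← deg_bc K hA f, ← LinearMap.det_conj _ (tateEquiv (A := A) K l)]
  exact (deg_eq_det (T := unitOb K) hl' (dim_bc K hA) rfl (bcEnd K f)).trans
    (congrArg LinearMap.det (tateEquiv_conj K l f).symm)

end Groth.Agent.DegPolyLib
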