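import Groth.Agent.DegPolyLib.BC

/-!
# The degree polynomial over an arbitrary ground field
-/

set_option autoImplicit false
set_option backward.isDefEq.respectTransparency false
set_option linter.style.haveILetI false
set_option synthInstance.maxHeartbeats 400000
set_option maxHeartbeats 1000000

universe u

open CategoryTheory CategoryTheory.Limits MonoidalCategory CartesianMonoidalCategory MonObj AlgebraicGeometry
open Groth.Agent.AVPtsLib (bcMap bcPt bcObj)
open Polynomial (C X)

noncomputable section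

namespace Groth.Agent.DegPolyLib

variable {k : Type u} [Field k] (K : Type u) [Field K] [Algebra k K]
  {A : Over (Spec (CommRingCat.of k))} [GrpObj A] [IsCommMonObj A] [IsProper A.hom] [GeometricallyIntegral A.hom]

omit [IsProper A.hom] [GeometricallyIntegral A.hom] in
theorem map_toHom_sub (φ : EndAV.End A) (n : ℤ) :
    EndAV.End.toHom (bcEnd K φ.toHom - ((n : ℤ) : EndAV.End (bcObj K A))) =
      (Over.pullback (bcMap K)).map (EndAV.End.toHom (φ - ((n : ℤ) : EndAV.End A))) := by
  let F := Over.pullback (bcMap (k := k) K)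
  let H : (A ⟶ A) →* (bcObj K A ⟶ bcObj K A) :=
    MonoidHom.mk' (fun f => F.map f) fun f g => Functor.map_mul F f g
  rw [EndAV.End.toHom_sub, EndAV.End.toHom_intCast, EndAV.End.toHom_sub, EndAV.End.toHom_intCast]
  show _ = H (φ.toHom / 𝟙 A ^ n)
  rw [map_div, map_zpow, show H (𝟙 A) = 𝟙 (bcObj K A) from F.map_id A]
  rfl

variable {g : ℕ} (hA : topologicalKrullDim A.left = g)

include hA in
/-- The degree polynomial is unchanged by extension of the ground field. -/
theorem degE_bcEnd_sub [IsAlgClosed K] (φ : EndAV.End A) (n : ℤ) :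
    degE (bcEnd K φ.toHom - ((n : ℤ) : EndAV.End (bcObj K A))) = degE (φ - ((n : ℤ) : EndAV.End A)) := by
  rw [degE, degE, ← deg_bc K hA (EndAV.End.toHom (φ - ((n : ℤ) : EndAV.End A)))]
  exact congrArg deg (map_toHom_sub K φ n)

include hA in
/-- The characteristic polynomial on the Tate module, over an arbitrary field. -/
theorem charpoly_any [IsAlgClosed K] (l : ℕ) [Fact l.Prime] (hl : (l : k) ≠ 0) (φ : EndAV.End A) (P : Polynomial ℤ)
    (hP : ∀ n : ℤ, P.eval n = (degE (φ - ((n : ℤ) : EndAV.End A)) : ℤ))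
    [Module.Free ℤ_[l] (AbDual.TateMod A l (bcPt K))] [Module.Finite ℤ_[l] (AbDual.TateMod A l (bcPt K))] :
    (EndAV.End.tateRep l (bcPt K) φ).charpoly = P.map (Int.castRingHom ℤ_[l]) :=
  charpoly_bc K l hl hA φ.toHom P fun n => by rw [hP, degE_bcEnd_sub K hA φ n]

omit K [Field K] [Algebra k K] in
include hA in
/-- The characteristic polynomial divides a power of any monic relation. -/
theorem charPZ_dvd (φ : EndAV.End A) (P : Polynomial ℤ)
    (hP : ∀ n : ℤ, P.eval n = (degE (φ - ((n : ℤ) : EndAV.End A)) : ℤ)) (h : Polynomial ℤ) (hm : h.Monic)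
    (hh : evZ φ h = 0) : P.map (Int.castRingHom ℚ) ∣ (h.map (Int.castRingHom ℚ)) ^ (2 * g) := by
  obtain ⟨S, -, hS⟩ := exists_polyE hA fun i : Fin h.natDegree => φ ^ (i : ℕ)
  let b : Fin h.natDegree → Polynomial ℤ := fun j =>
    ∑ i ∈ Finset.Icc ((j : ℕ) + 1) h.natDegree, X ^ (i - ((j : ℕ) + 1)) * C (h.coeff i)
  let R : Polynomial ℚ := MvPolynomial.aeval (fun j => (b j).map (Int.castRingHom ℚ)) S
  refine ⟨R, (Polynomial.eq_of_infinite_eval_eq _ _ ((Set.infinite_range_of_injective
    (Int.cast_injective (α := ℚ))).mono ?_)).symm⟩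
  rintro _ ⟨n, rfl⟩
  show Polynomial.eval _ _ = Polynomial.eval _ _
  have hb : ∀ j : Fin h.natDegree, (b j).eval n = (h /ₘ (X - C n)).coeff j := fun j => by
    rw [Polynomial.coeff_divByMonic_X_sub_C]
    simp [b, Polynomial.eval_finsetSum]
  have hR : R.eval (n : ℚ) = (degE (evZ φ (h /ₘ (X - C n))) : ℚ) := by
    have h1 := hS fun j => (b j).eval n
    have e1 : R.eval (n : ℚ) = MvPolynomial.eval (fun j => (((b j).eval n : ℤ) : ℚ)) S := by
      show (Polynomial.aeval (n : ℚ)) (MvPolynomial.aeval _ S) = _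
      rw [← AlgHom.comp_apply, MvPolynomial.comp_aeval, MvPolynomial.aeval_eq_eval]
      congr 2
      funext j
      rw [Polynomial.coe_aeval_eq_eval, Polynomial.eval_intCast_map]
      rfl
    rw [e1, h1]
    congr 2
    show (∑ j : Fin h.natDegree, (b j).eval n • φ ^ (j : ℕ)) = Polynomial.eval₂ (Int.castRingHom _) φ _
    rw [Polynomial.eval₂_eq_sum_range' _ (n := h.natDegree + 1) (by
      rw [Polynomial.natDegree_divByMonic _ (Polynomial.monic_X_sub_C n), Polynomial.natDegree_X_sub_C]
      omega), Finset.sum_range_succ, show (h /ₘ (X - C n)).coeff h.natDegree = 0 by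
        rw [Polynomial.coeff_divByMonic_X_sub_C]; simp, map_zero, zero_mul, add_zero,
      ← Fin.sum_univ_eq_sum_range (fun i => Int.castRingHom (EndAV.End A) ((h /ₘ (X - C n)).coeff i) * φ ^ i)]
    exact Finset.sum_congr rfl fun j _ => by rw [hb, zsmul_eq_mul]; rfl
  have hdiv := congrArg (evZ φ) (Polynomial.X_sub_C_mul_divByMonic_eq_sub_modByMonic h n)
  rw [Polynomial.modByMonic_X_sub_C_eq_C_eval, map_mul, map_sub, map_sub, evZ_X, evZ_C, evZ_C, hh, zero_sub] at hdiv
  have hmul := degE_mul hA (φ - ((n : ℤ) : EndAV.End A)) (evZ φ (h /ₘ (X - C n)))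
  rw [hdiv] at hmul
  rw [Polynomial.eval_mul, hR, Polynomial.eval_intCast_map, hP, Polynomial.eval_pow, Polynomial.eval_intCast_map,
    Int.cast_id,
    show ((Int.castRingHom ℚ) ((degE (φ - ((n : ℤ) : EndAV.End A)) : ℕ) : ℤ)) = (degE (φ - ((n : ℤ) : EndAV.End A)) : ℚ) by simp,
    ← Nat.cast_mul, ← hmul, ← Int.cast_neg, degE_intCast hA, Int.cast_neg, Even.neg_pow (even_two_mul g)]
  rfl

end Groth.Agent.DegPolyLib
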