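import Groth.Agent.DegPolyLib.EndDeg

/-!
# Conversions to the raw form of the degree
-/

set_option autoImplicit false
set_option backward.isDefEq.respectTransparency false
set_option linter.style.haveILetI false
set_option synthInstance.maxHeartbeats 400000

universe u

open CategoryTheory CategoryTheory.Limits MonoidalCategory CartesianMonoidalCategory MonObj AlgebraicGeometry

noncomputable section

namespace Groth.Agent.DegPolyLib

variable {K : Type u} [Field K] {A : Over (Spec (CommRingCat.of K))}
  [GrpObj A] [IsCommMonObj A] [IsProper A.hom] [GeometricallyIntegral A.hom]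
  {g : ℕ} (hA : topologicalKrullDim A.left = g)

theorem toHom_sub_intCast (α : A ⟶ A) [IsMonHom α] (n : ℤ) :
    EndAV.End.toHom (EndAV.End.of α - ((n : ℤ) : EndAV.End A)) = α * 𝟙 A ^ (-n) := by
  rw [EndAV.End.toHom_sub, EndAV.End.toHom_intCast, EndAV.End.toHom_of, div_eq_mul_inv, zpow_neg]

include hA in
/-- A value prescribed by the finrank convention is the degree. -/
theorem spec_of_degE {R : Type*} [AddGroupWithOne R] (ψ : EndAV.End A) (v : R) (h : v = (degE ψ : R)) :
    (IsFinite (EndAV.End.toHom ψ).left → ∀ a : A.left, (Scheme.Hom.finrank (EndAV.End.toHom ψ).left a : R) = v) ∧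
      (¬ IsFinite (EndAV.End.toHom ψ).left → v = 0) := by
  refine ⟨fun hf a => ?_, fun hf => ?_⟩
  · rw [h, degE, deg_eq_finrank hA hA _ hf a]
  · rw [h, degE, (deg_eq_zero_iff hA hA _).2 hf, Nat.cast_zero]

include hA in
/-- The finrank convention determines the value. -/
theorem degE_of_spec {R : Type*} [AddGroupWithOne R] (ψ : EndAV.End A) (v : R)
    (h : (IsFinite (EndAV.End.toHom ψ).left → ∀ a : A.left, (Scheme.Hom.finrank (EndAV.End.toHom ψ).left a : R) = v) ∧
      (¬ IsFinite (EndAV.End.toHom ψ).left → v = 0)) : v = (degE ψ : R) := by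
  haveI : IsIntegral A.left := GeometricallyIntegral.isIntegral_of_subsingleton A.hom
  by_cases hf : IsFinite (EndAV.End.toHom ψ).left
  · rw [← h.1 hf (genericPoint A.left), degE, deg_eq_finrank hA hA _ hf (genericPoint A.left)]
  · rw [h.2 hf, degE, (deg_eq_zero_iff hA hA _).2 hf, Nat.cast_zero]

end Groth.Agent.DegPolyLib
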