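import Mathlib

/-!
# Dehomogenising a form in two variables
-/

set_option autoImplicit false

namespace Groth.Agent.DegPolyLib

open Polynomial

theorem dehomog {n : ℕ} (P : MvPolynomial (Fin 2) ℚ) (hP : P.IsHomogeneous n)
    (h1 : MvPolynomial.eval ![(1 : ℚ), 0] P = 1) :
    ∃ Q : ℚ[X], Q.Monic ∧ Q.natDegree = n ∧ ∀ x : ℚ, Q.eval x = MvPolynomial.eval ![x, 1] P := by
  classical
  have hd : ∀ d ∈ P.support, d 0 + d 1 = n := fun d hd => by
    have h := hP (MvPolynomial.mem_support_iff.1 hd)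
    rwa [Finsupp.weight_apply, Finsupp.sum_fintype _ _ (fun i => by simp), Fin.sum_univ_two, Pi.one_apply,
      Pi.one_apply, smul_eq_mul, smul_eq_mul, mul_one, mul_one] at h
  let Q : ℚ[X] := ∑ d ∈ P.support, C (P.coeff d) * X ^ d 0
  have hev : ∀ x : ℚ, Q.eval x = MvPolynomial.eval ![x, 1] P := fun x => by
    rw [MvPolynomial.eval_eq']
    simp [Q, Polynomial.eval_finsetSum, Fin.prod_univ_two]
  have hle : Q.natDegree ≤ n :=
    natDegree_sum_le_of_forall_le _ _ fun d hd' => (natDegree_C_mul_X_pow_le _ _).trans ((hd d hd') ▸ Nat.le_add_right _ _)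
  have hc : Q.coeff n = 1 := by
    rw [← h1, MvPolynomial.eval_eq']
    simp only [Q, finsetSum_coeff, coeff_C_mul_X_pow, Fin.prod_univ_two, Matrix.cons_val_zero, Matrix.cons_val_one,
      one_pow, one_mul]
    refine Finset.sum_congr rfl fun d hd' => ?_
    have := hd d hd'
    rcases Nat.eq_zero_or_pos (d 1) with h | h
    · rw [h, pow_zero, mul_one, if_pos (by omega)]
    · rw [zero_pow h.ne', mul_zero, if_neg (by omega)]
  exact ⟨Q, monic_of_natDegree_le_of_coeff_eq_one n hle hc,
    le_antisymm hle (le_natDegree_of_ne_zero (by rw [hc]; exact one_ne_zero)), hev⟩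

end Groth.Agent.DegPolyLib
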