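import Groth.Agent.DegPolyLib.Mult
import Groth.Agent.DegPolyLib.OneVar
import Groth.Agent.DegPolyLib.Resultant
import Groth.Agent.AVHomLib.End0

/-!
# The degree on the endomorphism ring, and its characteristic polynomial
-/

set_option autoImplicit false
set_option backward.isDefEq.respectTransparency false
set_option linter.style.haveILetI false
set_option synthInstance.maxHeartbeats 400000
set_option maxHeartbeats 1000000

universe u

open CategoryTheory CategoryTheory.Limits MonoidalCategory CartesianMonoidalCategory MonObj AlgebraicGeometry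
open Polynomial (C X)

noncomputable section

namespace Groth.Agent.DegPolyLib

/-- Evaluation of integral polynomials in a ring. -/
def evZ {R : Type*} [Ring R] (x : R) : Polynomial ℤ →+* R :=
  Polynomial.eval₂RingHom' (Int.castRingHom R) x fun a => Int.cast_commute a x

theorem evZ_X {R : Type*} [Ring R] (x : R) : evZ x X = x := Polynomial.eval₂_X _ _

theorem evZ_C {R : Type*} [Ring R] (x : R) (a : ℤ) : evZ x (C a) = (a : R) := Polynomial.eval₂_C _ _

theorem splitCoef_map {R S : Type*} [CommRing R] [CommRing S] (f : R →+* S) {d : ℕ} (c : Fin d → R) (j : Fin d) :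
    f (splitCoef c j) = splitCoef (fun i => f (c i)) j := by
  rw [splitCoef, splitCoef, ← Polynomial.coeff_map, Polynomial.map_prod]
  simp

/-- The split product as an expansion in powers. -/
theorem evZ_split {R : Type*} [Ring R] (x : R) {d : ℕ} (c : Fin d → ℤ) :
    evZ x (∏ i, (X + C (c i))) = x ^ d + ∑ j : Fin d, (splitCoef c j) • x ^ (j : ℕ) := by
  have h := prod_eq_eval_splitCoef (fun i => C (c i)) (X : Polynomial ℤ)
  rw [h, map_add, map_pow, evZ_X, map_sum]
  congr 1
  refine Finset.sum_congr rfl fun j _ => ?_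
  have e : splitCoef (fun i => C (c i)) j = C (splitCoef c j) := (splitCoef_map C c j).symm
  rw [e, map_mul, map_pow, evZ_X, evZ_C, zsmul_eq_mul]

variable {K : Type u} [Field K] {A : Over (Spec (CommRingCat.of K))}
  [GrpObj A] [IsCommMonObj A] [IsProper A.hom] [GeometricallyIntegral A.hom]
  {g : ℕ} (hA : topologicalKrullDim A.left = g)

/-- The degree of an endomorphism. -/
abbrev degE (φ : EndAV.End A) : ℕ := deg φ.toHom

include hA in
theorem degE_mul (φ ψ : EndAV.End A) : degE (φ * ψ) = degE φ * degE ψ :=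
  (deg_comp hA hA hA ψ.toHom φ.toHom).trans (Nat.mul_comm _ _)

include hA in
theorem degE_one : degE (1 : EndAV.End A) = 1 := by
  haveI : IsMonHom (𝟙 A ^ 1) := by rw [pow_one]; infer_instance
  have h := deg_npow hA 1 le_rfl
  rw [one_pow] at h
  simp only [pow_one] at h
  exact h

include hA in
/-- The degree as a polynomial in the coordinates. -/
theorem exists_polyE {m : ℕ} (f : Fin m → EndAV.End A) :
    ∃ P : MvPolynomial (Fin m) ℚ, P.IsHomogeneous (2 * g) ∧
      ∀ a : Fin m → ℤ, MvPolynomial.eval (fun i => (a i : ℚ)) P = (degE (∑ i, a i • f i) : ℚ) := by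
  obtain ⟨P, hP, h⟩ := exists_degPoly hA hA fun i => (f i).toHom
  refine ⟨P, hP, fun a => ?_⟩
  have e : EndAV.End.toHom (∑ i, a i • f i) = ∏ i, (f i).toHom ^ a i := by
    let T : EndAV.End A →+ Additive (A ⟶ A) :=
      AddMonoidHom.mk' (fun φ => Additive.ofMul φ.toHom) fun φ ψ => rfl
    have h1 : T (∑ i, a i • f i) = ∑ i, a i • T (f i) := by rw [map_sum]; simp only [map_zsmul]
    exact congrArg Additive.toMul h1
  haveI : IsMonHom (∏ i, (f i).toHom ^ a i) := isMonHom_comb _ a
  rw [degE, show deg (EndAV.End.toHom (∑ i, a i • f i)) = deg (∏ i, (f i).toHom ^ a i) from congrArg deg e]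
  by_cases hf : IsFinite (∏ i, (f i).toHom ^ a i).left
  · haveI : IsIntegral A.left := GeometricallyIntegral.isIntegral_of_subsingleton A.hom
    rw [deg_eq_finrank hA hA _ hf (genericPoint A.left)]
    exact ((h a).1 hf _).symm
  · rw [(deg_eq_zero_iff hA hA _).2 hf, Nat.cast_zero]
    exact (h a).2 hf

include hA in
theorem degE_intCast (n : ℤ) : (degE ((n : ℤ) : EndAV.End A) : ℚ) = (n : ℚ) ^ (2 * g) := by
  obtain ⟨P, hP, h⟩ := exists_polyE hA fun _ : Fin 1 => (1 : EndAV.End A)
  have e : ∀ b : ℤ, (degE ((b : ℤ) : EndAV.End A) : ℚ) = MvPolynomial.eval (fun _ => (b : ℚ)) P := fun b => by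
    rw [h fun _ => b, Fin.sum_univ_one, zsmul_one]
  have h1 := e 1
  rw [Int.cast_one, degE_one hA, Nat.cast_one, Int.cast_one] at h1
  rw [e n]
  have hd : ∀ x : ℚ, MvPolynomial.eval (fun _ => x) P = x ^ (2 * g) * MvPolynomial.eval (fun _ => 1) P := fun x => by
    rw [MvPolynomial.eval_eq, MvPolynomial.eval_eq, Finset.mul_sum]
    refine Finset.sum_congr rfl fun s hs => ?_
    have hdeg := hP (MvPolynomial.mem_support_iff.1 hs)
    rw [Finsupp.weight_apply, Finsupp.sum, Finset.sum_congr rfl (fun i _ => by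
      rw [Pi.one_apply, smul_eq_mul, _root_.mul_one])] at hdeg
    rw [Finset.prod_pow_eq_pow_sum, hdeg]
    simp [mul_comm]
  rw [hd, ← h1, _root_.mul_one]

include hA in
/-- The characteristic polynomial of an endomorphism. -/
theorem exists_charP (φ : EndAV.End A) : ∃ P : Polynomial ℚ, P.Monic ∧ P.natDegree = 2 * g ∧
    ∀ n : ℤ, P.eval (n : ℚ) = (degE (φ - ((n : ℤ) : EndAV.End A)) : ℚ) := by
  obtain ⟨P, hP, h⟩ := exists_polyE hA ![(1 : EndAV.End A), φ]
  have e : ∀ n m : ℤ, MvPolynomial.eval ![(n : ℚ), (m : ℚ)] P = (degE (((n : ℤ) : EndAV.End A) + m • φ) : ℚ) :=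
    fun n m => by
      have h' := h ![n, m]
      rw [Fin.sum_univ_two, show (fun i => ((![n, m] i : ℤ) : ℚ)) = ![(n : ℚ), (m : ℚ)] from
        funext (Fin.forall_fin_two.2 ⟨rfl, rfl⟩)] at h'
      simpa using h'
  have h1 := e 1 0
  rw [zero_smul, add_zero, Int.cast_one, Int.cast_one, Int.cast_zero, degE_one hA, Nat.cast_one] at h1
  obtain ⟨Q, hQ, hd, hQe⟩ := dehomog P hP h1
  refine ⟨Q.comp (-X), ?_, by rw [Polynomial.natDegree_comp, hd, Polynomial.natDegree_neg,
    Polynomial.natDegree_X, _root_.mul_one], fun n => ?_⟩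
  · rw [Polynomial.Monic, Polynomial.leadingCoeff_comp (by simp), hQ.leadingCoeff, hd, _root_.one_mul,
      Polynomial.leadingCoeff_neg, Polynomial.leadingCoeff_X, Even.neg_one_pow (even_two_mul g)]
  · rw [Polynomial.eval_comp, Polynomial.eval_neg, Polynomial.eval_X, hQe]
    have h2 := e (-n) 1
    rw [Int.cast_neg, Int.cast_one, one_smul, Int.cast_neg, neg_add_eq_sub] at h2
    exact h2

include hA in
/-- The degree of the split forms. -/
theorem degE_split (φ : EndAV.End A) (P : Polynomial ℚ)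
    (hP : ∀ n : ℤ, P.eval (n : ℚ) = (degE (φ - ((n : ℤ) : EndAV.End A)) : ℚ)) {d : ℕ} (c : Fin d → ℤ) :
    (degE (φ ^ d + ∑ j : Fin d, (splitCoef c j) • φ ^ (j : ℕ)) : ℚ) = ∏ i, P.eval (-(c i : ℚ)) := by
  let N : Polynomial ℤ →* ℚ :=
    { toFun := fun G => (degE (evZ φ G) : ℚ)
      map_one' := by rw [map_one, degE_one hA, Nat.cast_one]
      map_mul' := fun G H => by rw [map_mul, degE_mul hA, Nat.cast_mul] }
  rw [← evZ_split]
  show N _ = _
  rw [map_prod]
  refine Finset.prod_congr rfl fun i _ => ?_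
  show (degE (evZ φ (X + C (c i))) : ℚ) = _
  rw [map_add, evZ_X, evZ_C, ← Int.cast_neg, hP, Int.cast_neg, sub_neg_eq_add]

include hA in
/-- The degree of monic forms as a polynomial in the coefficients. -/
theorem exists_monicForm (φ : EndAV.End A) (d : ℕ) : ∃ N : MvPolynomial (Fin d) ℚ,
    ∀ a : Fin d → ℤ, MvPolynomial.eval (fun i => (a i : ℚ)) N =
      (degE (φ ^ d + ∑ j : Fin d, a j • φ ^ (j : ℕ)) : ℚ) := by
  obtain ⟨P, -, h⟩ := exists_polyE hA fun i : Fin (d + 1) => φ ^ (i : ℕ)
  refine ⟨MvPolynomial.aeval (Fin.snoc MvPolynomial.X 1) P, fun a => ?_⟩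
  have h' := h (Fin.snoc a 1)
  rw [Fin.sum_univ_castSucc] at h'
  simp only [Fin.snoc_castSucc, Fin.snoc_last, Fin.val_castSucc, Fin.val_last, one_smul] at h'
  rw [add_comm (φ ^ d), ← h', ← MvPolynomial.aeval_eq_eval, ← AlgHom.comp_apply, MvPolynomial.comp_aeval]
  show MvPolynomial.aeval _ P = MvPolynomial.aeval (fun i => ((Fin.snoc a 1 : Fin (d + 1) → ℤ) i : ℚ)) P
  congr 2
  funext i
  induction i using Fin.lastCases with
  | last => simp
  | cast i => simp

include hA in
/-- The characteristic polynomial has integral coefficients. -/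
theorem exists_charPZ (φ : EndAV.End A) : ∃ P : Polynomial ℤ, P.Monic ∧ P.natDegree = 2 * g ∧
    ∀ n : ℤ, P.eval n = (degE (φ - ((n : ℤ) : EndAV.End A)) : ℤ) := by
  haveI : Module.Finite ℤ (EndAV.End A) := (AVHomLib.finite_hom A A).1
  obtain ⟨h, hm, hh⟩ : ∃ h : Polynomial ℤ, h.Monic ∧ evZ φ h = 0 := by
    obtain ⟨h, hm, hh⟩ := IsIntegral.of_finite ℤ φ
    refine ⟨h, hm, ?_⟩
    rwa [show (algebraMap ℤ (EndAV.End A)) = Int.castRingHom _ from RingHom.ext_int _ _] at hh
  obtain ⟨P, hP, hd, hPe⟩ := exists_charP hA φ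
  obtain ⟨S, -, hS⟩ := exists_polyE hA fun i : Fin h.natDegree => φ ^ (i : ℕ)
  let b : Fin h.natDegree → Polynomial ℤ := fun j =>
    ∑ i ∈ Finset.Icc ((j : ℕ) + 1) h.natDegree, X ^ (i - ((j : ℕ) + 1)) * C (h.coeff i)
  let R : Polynomial ℚ := MvPolynomial.aeval (fun j => (b j).map (Int.castRingHom ℚ)) S
  have key : P * R = (h.map (Int.castRingHom ℚ)) ^ (2 * g) := by
    refine Polynomial.eq_of_infinite_eval_eq _ _ ((Set.infinite_range_of_injective
      (Int.cast_injective (α := ℚ))).mono ?_)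
    rintro _ ⟨n, rfl⟩
    show Polynomial.eval _ _ = Polynomial.eval _ _
    have hb : ∀ j : Fin h.natDegree, (b j).eval n = (h /ₘ (X - C n)).coeff j := fun j => by
      rw [Polynomial.coeff_divByMonic_X_sub_C]
      simp [b, Polynomial.eval_finsetSum]
    have hR : R.eval (n : ℚ) = (degE (evZ φ (h /ₘ (X - C n))) : ℚ) := by
      have h1 := hS fun j => (b j).eval n
      have e1 : R.eval (n : ℚ) = MvPolynomial.eval (fun j => (((b j).eval n : ℤ) : ℚ)) S := by
        show (Polynomial.aeval (n : ℚ)) (MvPolynomial.aeval _ S) = _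
        rw [← AlgHom.comp_apply, MvPolynomial.comp_aeval, MvPolynomial.aeval_eq_eval]
        congr 2
        funext j
        rw [Polynomial.coe_aeval_eq_eval, Polynomial.eval_intCast_map]
        rfl
      rw [e1, h1]
      congr 2
      show (∑ j : Fin h.natDegree, (b j).eval n • φ ^ (j : ℕ)) = Polynomial.eval₂ (Int.castRingHom _) φ _
      rw [Polynomial.eval₂_eq_sum_range' _ (n := h.natDegree + 1) (by
        rw [Polynomial.natDegree_divByMonic _ (Polynomial.monic_X_sub_C n), Polynomial.natDegree_X_sub_C]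
        omega), Finset.sum_range_succ, show (h /ₘ (X - C n)).coeff h.natDegree = 0 by
          rw [Polynomial.coeff_divByMonic_X_sub_C]; simp, map_zero, zero_mul, add_zero,
        ← Fin.sum_univ_eq_sum_range (fun i => Int.castRingHom (EndAV.End A) ((h /ₘ (X - C n)).coeff i) * φ ^ i)]
      exact Finset.sum_congr rfl fun j _ => by rw [hb, zsmul_eq_mul]; rfl
    have hdiv := congrArg (evZ φ) (Polynomial.X_sub_C_mul_divByMonic_eq_sub_modByMonic h n)
    rw [Polynomial.modByMonic_X_sub_C_eq_C_eval, map_mul, map_sub, map_sub, evZ_X, evZ_C, evZ_C, hh, zero_sub] at hdiv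
    rw [Polynomial.eval_mul, hPe, hR, ← Nat.cast_mul, ← degE_mul hA, hdiv, Polynomial.eval_pow, ← Int.cast_neg,
      degE_intCast hA, Int.cast_neg, Even.neg_pow (even_two_mul g), Polynomial.eval_intCast_map]
    rfl
  have hdvd : P ∣ (h ^ (2 * g)).map (algebraMap ℤ ℚ) := by
    rw [Polynomial.map_pow, show algebraMap ℤ ℚ = Int.castRingHom ℚ from RingHom.ext_int _ _]
    exact ⟨R, key.symm⟩
  obtain ⟨P', hP'⟩ := IsIntegrallyClosed.eq_map_mul_C_of_dvd ℚ (hm.pow (2 * g)) hdvd
  rw [hP.leadingCoeff, Polynomial.C_1, _root_.mul_one] at hP'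
  have hinj : Function.Injective (algebraMap ℤ ℚ) := Int.cast_injective
  refine ⟨P', Polynomial.monic_of_injective hinj (by rwa [hP']), ?_, fun n => ?_⟩
  · rw [← hd, ← hP', Polynomial.natDegree_map_eq_of_injective hinj]
  · have h2 := hPe n
    rw [← hP', show algebraMap ℤ ℚ = Int.castRingHom ℚ from RingHom.ext_int _ _, Polynomial.eval_intCast_map] at h2
    exact Int.cast_injective (α := ℚ) (by simpa using h2)

end Groth.Agent.DegPolyLib
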