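import Groth.Agent.DegPolyLib.BCEnd
import Groth.Agent.AVHomLib.End0
import Mathlib.FieldTheory.IsAlgClosed.Basic

/-!
# Irreducible minimal polynomials
-/

set_option autoImplicit false
set_option backward.isDefEq.respectTransparency false
set_option linter.style.haveILetI false
set_option synthInstance.maxHeartbeats 400000
set_option maxHeartbeats 1000000

universe u

open CategoryTheory CategoryTheory.Limits MonoidalCategory CartesianMonoidalCategory MonObj AlgebraicGeometry
open Polynomial (C X)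

noncomputable section

namespace Groth.Agent.DegPolyLib

variable {k : Type u} [Field k]
  {A : Over (Spec (CommRingCat.of k))} [GrpObj A] [IsCommMonObj A] [IsProper A.hom] [GeometricallyIntegral A.hom]

omit [IsProper A.hom] [GeometricallyIntegral A.hom] in
theorem toEnd0_evZ (φ : EndAV.End A) (h : Polynomial ℤ) :
    EndAV.toEnd0 (evZ φ h) = Polynomial.aeval (EndAV.toEnd0 φ) (h.map (Int.castRingHom ℚ)) := by
  have e : (EndAV.toEnd0 (A := A)).toRingHom.comp (evZ φ) =
      (Polynomial.aeval (EndAV.toEnd0 φ)).toRingHom.comp (Polynomial.mapRingHom (Int.castRingHom ℚ)) := by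
    refine Polynomial.ringHom_ext (fun a => ?_) ?_
    · simp [evZ_C]
    · simp [evZ_X]
  exact RingHom.congr_fun e h

variable {g : ℕ} (hA : topologicalKrullDim A.left = g)

include hA in
/-- If the minimal polynomial is irreducible, the degree polynomial is a power of it. -/
theorem charPZ_eq_pow (φ : EndAV.End A) (hirr : Irreducible (minpoly ℚ (EndAV.toEnd0 φ))) :
    ∃ P : Polynomial ℤ, (∀ n : ℤ, P.eval n = (degE (φ - ((n : ℤ) : EndAV.End A)) : ℤ)) ∧
      P.map (Int.castRingHom ℚ) =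
        minpoly ℚ (EndAV.toEnd0 φ) ^ (2 * g / (minpoly ℚ (EndAV.toEnd0 φ)).natDegree) := by
  haveI : Module.Finite ℤ (EndAV.End A) := (AVHomLib.finite_hom A A).1
  haveI := AVHomLib.finite_end0 A
  obtain ⟨h, hm, hh⟩ : ∃ h : Polynomial ℤ, h.Monic ∧ evZ φ h = 0 := by
    obtain ⟨h, hm, hh⟩ := IsIntegral.of_finite ℤ φ
    refine ⟨h, hm, ?_⟩
    rwa [show (algebraMap ℤ (EndAV.End A)) = Int.castRingHom _ from RingHom.ext_int _ _] at hh
  obtain ⟨P, hPm, hd, hP⟩ := exists_charPZ hA φ
  refine ⟨P, hP, ?_⟩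
  have hint : IsIntegral ℚ (EndAV.toEnd0 φ) := IsIntegral.of_finite ℚ _
  set q := minpoly ℚ (EndAV.toEnd0 φ) with hqdef
  have hqm : q.Monic := minpoly.monic hint
  have hdvd : q ∣ h.map (algebraMap ℤ ℚ) := minpoly.dvd ℚ _ (by
    rw [algebraMap_int_eq, ← toEnd0_evZ, hh, map_zero])
  obtain ⟨m, hm'⟩ := IsIntegrallyClosed.eq_map_mul_C_of_dvd ℚ hm hdvd
  rw [hqm.leadingCoeff, map_one, _root_.mul_one, algebraMap_int_eq] at hm'
  have hmm : m.Monic := Polynomial.monic_of_injective (Int.cast_injective (α := ℚ)) (hm' ▸ hqm)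
  have hmz : evZ φ m = 0 := AVHomLib.toEnd0_injective (by
    rw [toEnd0_evZ, hm', map_zero]; exact minpoly.aeval _ _)
  have h2 := charPZ_dvd hA φ P hP m hmm hmz
  rw [hm'] at h2
  obtain ⟨i, -, hi⟩ := (dvd_prime_pow hirr.prime _).1 h2
  have hPq : P.map (Int.castRingHom ℚ) = q ^ i :=
    Polynomial.eq_of_monic_of_associated (hPm.map _) (hqm.pow i) hi
  have hdeg : 2 * g = i * q.natDegree := by
    rw [← Polynomial.natDegree_pow, ← hPq, Polynomial.natDegree_map_eq_of_injective (Int.cast_injective (α := ℚ)), hd]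
  rw [hPq, hdeg, Nat.mul_div_cancel _ hirr.natDegree_pos]

end Groth.Agent.DegPolyLib
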