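import Groth.Agent.DegPolyLib.Quad
import Groth.Agent.AVLib.Deg.AV

/-!
# The degree function: multiplicativity
-/

set_option autoImplicit false
set_option backward.isDefEq.respectTransparency false
set_option linter.style.haveILetI false

universe u

open CategoryTheory CategoryTheory.Limits MonoidalCategory CartesianMonoidalCategory MonObj AlgebraicGeometry
open Groth.Agent.PicLib (Pic cls exists_cls pull pull_cls)

noncomputable section

namespace Groth.Agent.DegPolyLib

variable {K : Type u} [Field K]

open scoped Classical in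
/-- The degree, zero for a map which is not finite. -/
def deg {A B : Over (Spec (CommRingCat.of K))} [GeometricallyIntegral B.hom] (F : A ⟶ B) : ℕ :=
  haveI : IsIntegral B.left := GeometricallyIntegral.isIntegral_of_subsingleton B.hom
  if IsFinite F.left then Scheme.Hom.finrank F.left (genericPoint B.left) else 0

variable {A B C : Over (Spec (CommRingCat.of K))} [GrpObj A] [IsProper A.hom] [GeometricallyIntegral A.hom]
  [GrpObj B] [IsProper B.hom] [GeometricallyIntegral B.hom]
  [GrpObj C] [IsProper C.hom] [GeometricallyIntegral C.hom]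
  {g : ℕ} (hA : topologicalKrullDim A.left = g) (hB : topologicalKrullDim B.left = g)
  (hC : topologicalKrullDim C.left = g)

include hA hB in
theorem selfInt_pull_eq (F : A ⟶ B) [IsMonHom F] (c : Pic B.left) :
    letI := overStr A; letI := overStr B
    haveI : IsProper (A.left ↘ Spec (CommRingCat.of K)) := ‹IsProper A.hom›
    haveI : IsProper (B.left ↘ Spec (CommRingCat.of K)) := ‹IsProper B.hom›
    selfInt K g (pull F.left c) = (deg F : ℤ) * selfInt K g c := by
  by_cases h : IsFinite F.left
  · rw [deg, if_pos h]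
    exact selfInt_pull_of_finite hA hB F h c _
  · rw [deg, if_neg h, Nat.cast_zero, zero_mul]
    exact selfInt_pull_of_not_finite hA hB F h c

include hA hB in
theorem deg_eq_finrank (F : A ⟶ B) [IsMonHom F] (hF : IsFinite F.left) (b : B.left) :
    deg F = Scheme.Hom.finrank F.left b := by
  letI := overStr A; letI := overStr B
  haveI : IsProper (A.left ↘ Spec (CommRingCat.of K)) := ‹IsProper A.hom›
  haveI : IsProper (B.left ↘ Spec (CommRingCat.of K)) := ‹IsProper B.hom›
  obtain ⟨M, hM, -⟩ := AVLib.exists_symmetric_ample (A := B)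
  have h := selfInt_pull_of_finite hA hB F hF (cls hM.1) b
  rw [selfInt_pull_eq hA hB F, mul_left_inj' (selfInt_pos K hB hM).ne'] at h
  exact_mod_cast h

include hA hB in
theorem deg_eq_zero_iff (F : A ⟶ B) [IsMonHom F] : deg F = 0 ↔ ¬ IsFinite F.left := by
  refine ⟨fun h hF => ?_, fun h => by rw [deg, if_neg h]⟩
  haveI := hF
  haveI : IsIntegral B.left := GeometricallyIntegral.isIntegral_of_subsingleton B.hom
  haveI := AVLib.surjective_of_isFinite F (hA.trans hB.symm)
  haveI := (AVLib.flat_iff_isFinite F (hA.trans hB.symm)).2 hF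
  haveI : IsLocallyNoetherian B.left := LocallyOfFiniteType.isLocallyNoetherian B.hom
  haveI : LocallyOfFinitePresentation F.left := inferInstance
  obtain ⟨x, hx⟩ := F.left.surjective (genericPoint B.left)
  rw [deg, if_pos hF] at h
  have h1 := Scheme.Hom.one_le_finrank_map F.left x
  rw [hx, h] at h1
  exact Nat.not_succ_le_zero 0 h1

include hA hB hC in
theorem deg_comp (F : A ⟶ B) [IsMonHom F] (G : B ⟶ C) [IsMonHom G] : deg (F ≫ G) = deg F * deg G := by
  letI := overStr A; letI := overStr B; letI := overStr C
  haveI : IsProper (A.left ↘ Spec (CommRingCat.of K)) := ‹IsProper A.hom›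
  haveI : IsProper (B.left ↘ Spec (CommRingCat.of K)) := ‹IsProper B.hom›
  haveI : IsProper (C.left ↘ Spec (CommRingCat.of K)) := ‹IsProper C.hom›
  obtain ⟨M, hM, -⟩ := AVLib.exists_symmetric_ample (A := C)
  have h := selfInt_pull_eq hA hC (F ≫ G) (cls hM.1)
  rw [Over.comp_left, PicLib.pull_comp, selfInt_pull_eq hA hB F, selfInt_pull_eq hB hC G, ← _root_.mul_assoc,
    mul_left_inj' (selfInt_pos K hC hM).ne'] at h
  exact_mod_cast h.symm

include hA in
theorem deg_npow (n : ℕ) (hn : 1 ≤ n) : deg (𝟙 A ^ n) = n ^ (2 * g) := by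
  obtain ⟨h1, -, h3⟩ := AVLib.npow_spec hA n hn
  rw [deg, if_pos h1, h3]

end Groth.Agent.DegPolyLib
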