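import Groth.Agent.DegPolyLib.Transitive
import Groth.Agent.AVLib.Points
import Groth.Agent.GrpSchLib.Cartier

/-!
# The number of rational points of a finite group scheme divides the rank
-/

set_option autoImplicit false
set_option backward.isDefEq.respectTransparency false
set_option linter.style.haveILetI false

universe u

open CategoryTheory CategoryTheory.Limits MonoidalCategory CartesianMonoidalCategory MonObj AlgebraicGeometry
open Groth.Agent.GrpSchLib (spO spMap)

noncomputable section

namespace Groth.Agent.DegPolyLib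

variable {K : Type u} [Field K] [IsAlgClosed K]

theorem bijective_conj {C : Type*} [Category C] {W X Y Z : C} (a : W ≅ X) (b : Y ≅ Z) :
    Function.Bijective fun t : X ⟶ Y => a.hom ≫ t ≫ b.hom := Function.bijective_iff_has_inverse.2
  ⟨fun s => a.inv ≫ s ≫ b.inv, fun t => by simp, fun s => by simp⟩

/-- A finite affine group scheme has a number of rational points dividing the dimension of its algebra. -/
theorem natCard_points_dvd_of_iso {N : Over (Spec (CommRingCat.of K))} [GrpObj N] (R : Type u) [CommRing R]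
    [Algebra K R] [Module.Finite K R] (e : spO K R ≅ N) :
    Finite (𝟙_ (Over (Spec (CommRingCat.of K))) ⟶ N) ∧
      Nat.card (𝟙_ (Over (Spec (CommRingCat.of K))) ⟶ N) ∣ Module.finrank K R := by
  let H : (spO K K ⟶ spO K R) → (𝟙_ (Over (Spec (CommRingCat.of K))) ⟶ N) := fun t => AVLib.unitIso.hom ≫ t ≫ e.hom
  have hH : Function.Bijective H := bijective_conj AVLib.unitIso e
  let P : (R →ₐ[K] K) ≃ (𝟙_ (Over (Spec (CommRingCat.of K))) ⟶ N) :=
    Equiv.ofBijective (fun z => H (spMap z))
      (hH.comp ⟨GrpSchLib.spMap_injective, fun t => GrpSchLib.exists_spMap t⟩)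
  haveI : Finite (R →ₐ[K] K) := by
    haveI : IsArtinianRing R := IsArtinianRing.of_finite K R
    exact Finite.of_equiv _ (ptsMax K R).symm
  refine ⟨Finite.of_equiv _ P, ?_⟩
  rw [← Nat.card_congr P]
  refine natCard_dvd_finrank fun x y => ?_
  let a : 𝟙_ (Over (Spec (CommRingCat.of K))) ⟶ N := (P x)⁻¹ * P y
  let tr : (𝟙_ (Over (Spec (CommRingCat.of K))) ⟶ N) → (N ⟶ N) := fun b => 𝟙 N * (toUnit N ≫ b)
  have htr : ∀ b c, tr b ≫ tr c = tr (b * c) := fun b c => by
    simp only [tr, MonObj.comp_mul, Category.comp_id]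
    rw [← Category.assoc, toUnit_unique ((𝟙 N * toUnit N ≫ b) ≫ toUnit N) (toUnit N), _root_.mul_assoc]
  have htr1 : tr 1 = 𝟙 N := by simp only [tr, MonObj.comp_one, _root_.mul_one]
  obtain ⟨g, hg⟩ := GrpSchLib.exists_spMap (e.hom ≫ tr a ≫ e.inv)
  obtain ⟨g', hg'⟩ := GrpSchLib.exists_spMap (e.hom ≫ tr a⁻¹ ≫ e.inv)
  have h1 : g.comp g' = AlgHom.id K R := GrpSchLib.spMap_injective (by
    rw [GrpSchLib.spMap_comp, GrpSchLib.spMap_id, hg, hg']
    simp only [Category.assoc, e.inv_hom_id_assoc]
    rw [← Category.assoc (tr a), htr, mul_inv_cancel, htr1, Category.id_comp, e.hom_inv_id])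
  have h2 : g'.comp g = AlgHom.id K R := GrpSchLib.spMap_injective (by
    rw [GrpSchLib.spMap_comp, GrpSchLib.spMap_id, hg, hg']
    simp only [Category.assoc, e.inv_hom_id_assoc]
    rw [← Category.assoc (tr a⁻¹), htr, inv_mul_cancel, htr1, Category.id_comp, e.hom_inv_id])
  refine ⟨AlgEquiv.ofAlgHom g g' h1 h2, P.injective ?_⟩
  have hP : ∀ z : R →ₐ[K] K, P z = AVLib.unitIso.hom ≫ spMap z ≫ e.hom := fun z =>
    Equiv.ofBijective_apply (fun z => H (spMap z)) _ z
  calc P (x.comp g) = P x ≫ tr a := by
        rw [hP, hP, GrpSchLib.spMap_comp, hg]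
        simp only [Category.assoc, e.inv_hom_id, Category.comp_id]
    _ = P y := by
        simp only [tr, MonObj.comp_mul, Category.comp_id]
        rw [← Category.assoc, toUnit_unique (P x ≫ toUnit N) (𝟙 _), Category.id_comp]
        exact mul_inv_cancel_left _ _

/-- A finite group scheme has a number of rational points dividing its rank. -/
theorem natCard_points_dvd (N : Over (Spec (CommRingCat.of K))) [GrpObj N] [IsFinite N.hom] [Flat N.hom] {n : ℕ}
    (h : ∀ x, N.hom.finrank x = n) :
    Finite (𝟙_ (Over (Spec (CommRingCat.of K))) ⟶ N) ∧ Nat.card (𝟙_ (Over (Spec (CommRingCat.of K))) ⟶ N) ∣ n := by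
  haveI : IsAffine N.left := isAffine_of_isAffineHom N.hom
  let R : Type u := Γ(N.left, ⊤)
  letI : Algebra K R := (Spec.preimage (N.left.isoSpec.inv ≫ N.hom)).hom.toAlgebra
  let e : spO K R ≅ N := Over.isoMk N.left.isoSpec.symm (Spec.map_preimage _).symm
  have hw : e.hom.left ≫ N.hom = Spec.map (CommRingCat.ofHom (algebraMap K R)) := Over.w e.hom
  haveI : IsIso e.hom.left := inferInstanceAs (IsIso ((Over.forget _).map e.hom))
  haveI hfin : IsFinite (Spec.map (CommRingCat.ofHom (algebraMap K R))) := by rw [← hw]; infer_instance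
  haveI : Module.Finite K R := RingHom.finite_algebraMap.1 ((IsFinite.SpecMap_iff _).1 hfin)
  have hn : Module.finrank K R = n := by
    have h1 := h (⊥ : PrimeSpectrum K)
    rw [← Scheme.Hom.finrank_comp_left_of_isIso e.hom.left, hw, Scheme.Hom.finrank_SpecMap_algebraMap,
      Module.rankAtStalk_eq_finrank_of_free] at h1
    exact h1
  rw [← hn]
  exact natCard_points_dvd_of_iso R e

end Groth.Agent.DegPolyLib
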