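import Groth.Agent.DegPolyLib.Top
import Groth.Agent.AVLib.Isogeny
import Groth.Agent.AVLib.Isog
import Groth.Agent.AVLib.Square
import Groth.Agent.CommGrpAbLib.Basic

/-!
# The degree is a quadratic-type form of degree `2g`
-/

set_option autoImplicit false
set_option backward.isDefEq.respectTransparency false
set_option linter.style.haveILetI false

universe u

open CategoryTheory CategoryTheory.Limits MonoidalCategory CartesianMonoidalCategory MonObj AlgebraicGeometry
open Groth.Agent.PicLib (Pic cls exists_cls pull pull_cls)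

noncomputable section

namespace Groth.Agent.DegPolyLib

section Sym

variable {K : Type u} [Field K] {A V : Over (Spec (CommRingCat.of K))}
  [GrpObj A] [IsCommMonObj A] [IsProper A.hom] [GeometricallyIntegral A.hom] (c : Pic A.left)

/-- The inverse image as a function of the map. -/
abbrev phi (f : V ⟶ A) : Pic V.left := pull f.left c

/-- The defect from additivity. -/
def bil (f g : V ⟶ A) : Pic V.left := phi c (f * g) / (phi c f * phi c g)

theorem bil_comm (f g : V ⟶ A) : bil c f g = bil c g f := by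
  rw [bil, bil, mul_comm f g, mul_comm (phi c f)]

theorem bil_mul_left (f g h : V ⟶ A) : bil c (f * g) h = bil c f h * bil c g h := by
  have hc := AVLib.cube c f g h
  simp only [bil, phi]
  rw [div_mul_div_comm, div_eq_div_iff_mul_eq_mul]
  calc pull (f * g * h).left c * (pull f.left c * pull h.left c * (pull g.left c * pull h.left c)) =
        pull (f * g * h).left c * pull f.left c * pull g.left c * pull h.left c * pull h.left c := by ac_rfl
    _ = _ := by rw [hc]; ac_rfl

/-- The symmetric biadditive form. -/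
def bilHom : Additive (V ⟶ A) →+ Additive (V ⟶ A) →+ Additive (Pic V.left) :=
  AddMonoidHom.mk' (fun f => AddMonoidHom.mk' (fun g => Additive.ofMul (bil c f.toMul g.toMul)) fun a b => by
    show Additive.ofMul (bil c f.toMul (a.toMul * b.toMul)) = _
    rw [bil_comm, bil_mul_left, bil_comm c a.toMul, bil_comm c b.toMul]
    rfl) fun a b => AddMonoidHom.ext fun g => congrArg Additive.ofMul (bil_mul_left c a.toMul b.toMul g.toMul)

theorem phi_inv (hc : pull ((𝟙 A)⁻¹).left c = c) (f : V ⟶ A) : phi c f⁻¹ = phi c f := by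
  have e : f ≫ (𝟙 A)⁻¹ = f⁻¹ := by rw [GrpObj.comp_inv, Category.comp_id]
  rw [phi, phi, ← e, Over.comp_left, PicLib.pull_comp, hc]

theorem bil_self (hc : pull ((𝟙 A)⁻¹).left c = c) (f : V ⟶ A) : bil c f f = phi c f * phi c f := by
  have h := ((bilHom c) (Additive.ofMul f)).map_neg (Additive.ofMul f)
  have h' : bil c f f⁻¹ = (bil c f f)⁻¹ := h
  have h1 : bil c f f⁻¹ = (phi c f * phi c f)⁻¹ := by
    rw [bil, mul_inv_cancel, phi_inv c hc, phi, AVLib.pull_one, one_div]
  exact inv_injective (h'.symm.trans h1)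

/-- Twice the class of an integral combination. -/
theorem two_phi_comb (hc : pull ((𝟙 A)⁻¹).left c = c) {m : ℕ} (f : Fin m → (V ⟶ A)) (a : Fin m → ℤ) :
    (2 : ℤ) • Additive.ofMul (phi c (∏ i, f i ^ a i)) =
      ∑ p : Fin m × Fin m, (a p.1 * a p.2) • Additive.ofMul (bil c (f p.1) (f p.2)) := by
  have h1 : bilHom c (Additive.ofMul (∏ i, f i ^ a i)) (Additive.ofMul (∏ i, f i ^ a i)) =
      (2 : ℤ) • Additive.ofMul (phi c (∏ i, f i ^ a i)) := by
    rw [two_zsmul]
    exact congrArg Additive.ofMul (bil_self c hc _)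
  rw [← h1]
  have e : Additive.ofMul (∏ i, f i ^ a i) = ∑ i, a i • Additive.ofMul (f i) := rfl
  rw [e, map_sum, Fintype.sum_prod_type, Finset.sum_comm]
  refine Finset.sum_congr rfl fun i _ => ?_
  simp only [map_sum, AddMonoidHom.finsetSum_apply, map_zsmul, AddMonoidHom.smul_apply]
  rw [Finset.smul_sum]
  refine Finset.sum_congr rfl fun j _ => ?_
  rw [smul_smul, mul_comm]
  rfl

end Sym

section Deg

variable {K : Type u} [Field K] {A B : Over (Spec (CommRingCat.of K))}
  [GrpObj A] [IsProper A.hom] [GeometricallyIntegral A.hom]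
  [GrpObj B] [IsProper B.hom] [GeometricallyIntegral B.hom]

/-- An abelian variety as a scheme over the field. -/
@[reducible] def overStr (A : Over (Spec (CommRingCat.of K))) : A.left.Over (Spec (CommRingCat.of K)) := ⟨A.hom⟩

theorem isMonHom_comb [IsCommMonObj B] {m : ℕ} (f : Fin m → (A ⟶ B)) [∀ i, IsMonHom (f i)] (a : Fin m → ℤ) :
    IsMonHom (∏ i, f i ^ a i) := by
  have h : ∀ i, f i ∈ CommGrpAbLib.homSub (X := A) (Y := B) := fun i => (inferInstance : IsMonHom (f i))
  exact Subgroup.prod_mem _ fun i _ => Subgroup.zpow_mem _ (h i) _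

variable {g : ℕ} (hA : topologicalKrullDim A.left = g) (hB : topologicalKrullDim B.left = g)

include hA hB in
theorem selfInt_pull_of_finite (F : A ⟶ B) [IsMonHom F] (hF : IsFinite F.left) (c : Pic B.left) (b : B.left) :
    letI := overStr A; letI := overStr B
    haveI : IsProper (A.left ↘ Spec (CommRingCat.of K)) := ‹IsProper A.hom›
    haveI : IsProper (B.left ↘ Spec (CommRingCat.of K)) := ‹IsProper B.hom›
    selfInt K g (pull F.left c) = (Scheme.Hom.finrank F.left b : ℤ) * selfInt K g c := by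
  letI := overStr A; letI := overStr B
  haveI : IsProper (A.left ↘ Spec (CommRingCat.of K)) := ‹IsProper A.hom›
  haveI : IsProper (B.left ↘ Spec (CommRingCat.of K)) := ‹IsProper B.hom›
  haveI : IsIntegral A.left := GeometricallyIntegral.isIntegral_of_subsingleton A.hom
  haveI : IsIntegral B.left := GeometricallyIntegral.isIntegral_of_subsingleton B.hom
  haveI := AVLib.surjective_of_isFinite F (hA.trans hB.symm)
  haveI := (AVLib.flat_iff_isFinite F (hA.trans hB.symm)).2 hF
  exact top_pull_of_finite K F.left (Over.w F) hA hB (fun _ => c) b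

include hA hB in
theorem selfInt_pull_of_not_finite (F : A ⟶ B) [IsMonHom F] (hF : ¬ IsFinite F.left) (c : Pic B.left) :
    letI := overStr A; letI := overStr B
    haveI : IsProper (A.left ↘ Spec (CommRingCat.of K)) := ‹IsProper A.hom›
    haveI : IsProper (B.left ↘ Spec (CommRingCat.of K)) := ‹IsProper B.hom›
    selfInt K g (pull F.left c) = 0 := by
  letI := overStr A; letI := overStr B
  haveI : IsProper (A.left ↘ Spec (CommRingCat.of K)) := ‹IsProper A.hom›
  haveI : IsProper (B.left ↘ Spec (CommRingCat.of K)) := ‹IsProper B.hom›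
  haveI : IsIntegral A.left := GeometricallyIntegral.isIntegral_of_subsingleton A.hom
  haveI : IsIntegral B.left := GeometricallyIntegral.isIntegral_of_subsingleton B.hom
  haveI := AVLib.isProper_hom F
  exact top_pull_of_not_surjective K F.left (Over.w F) hA hB
    (fun hs => hF (AVLib.isFinite_flat_of_surjective F (hA.trans hB.symm)).1) fun _ => c

include hA hB in
/-- The degree is a homogeneous polynomial of degree `2g`. -/
theorem exists_degPoly [IsCommMonObj B] {m : ℕ} (f : Fin m → (A ⟶ B)) [∀ i, IsMonHom (f i)] :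
    ∃ P : MvPolynomial (Fin m) ℚ, P.IsHomogeneous (2 * g) ∧
      ∀ a : Fin m → ℤ, (IsFinite (∏ i, f i ^ a i).left →
          ∀ b : B.left, (Scheme.Hom.finrank (∏ i, f i ^ a i).left b : ℚ) = MvPolynomial.eval (fun i => (a i : ℚ)) P) ∧
        (¬ IsFinite (∏ i, f i ^ a i).left → MvPolynomial.eval (fun i => (a i : ℚ)) P = 0) := by
  classical
  letI := overStr A; letI := overStr B
  haveI : IsProper (A.left ↘ Spec (CommRingCat.of K)) := ‹IsProper A.hom›
  haveI : IsProper (B.left ↘ Spec (CommRingCat.of K)) := ‹IsProper B.hom›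
  obtain ⟨M, hM, hs⟩ := AVLib.exists_symmetric_ample (A := B)
  set c : Pic B.left := cls hM.1 with hc
  have he : 0 < selfInt K g c := selfInt_pos K hB hM
  let T : (Fin g → Fin m × Fin m) → ℤ := fun r => top K fun t => bil c (f (r t).1) (f (r t).2)
  let D : ℚ := ((2 : ℚ) ^ g * (selfInt K g c : ℚ))⁻¹
  refine ⟨MvPolynomial.C D * ∑ r : Fin g → Fin m × Fin m,
    MvPolynomial.C (T r : ℚ) * ∏ t, (MvPolynomial.X (r t).1 * MvPolynomial.X (r t).2), ?_, fun a => ?_⟩
  · refine MvPolynomial.IsHomogeneous.C_mul (MvPolynomial.IsHomogeneous.sum _ _ _ fun r _ =>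
      MvPolynomial.IsHomogeneous.C_mul ?_ _) _
    have h : (∏ t, (MvPolynomial.X (r t).1 * MvPolynomial.X (r t).2) : MvPolynomial (Fin m) ℚ).IsHomogeneous
        (∑ _t : Fin g, (1 + 1)) := MvPolynomial.IsHomogeneous.prod _ _ _ fun t _ =>
      (MvPolynomial.isHomogeneous_X _ _).mul (MvPolynomial.isHomogeneous_X _ _)
    rwa [Finset.sum_const, Finset.card_univ, Fintype.card_fin, smul_eq_mul, mul_comm] at h
  haveI : IsMonHom (∏ i, f i ^ a i) := isMonHom_comb f a
  have key : (selfInt K g (pull (∏ i, f i ^ a i).left c) : ℚ) * 2 ^ g =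
      ∑ r : Fin g → Fin m × Fin m, (T r : ℚ) * ∏ t, ((a (r t).1 : ℚ) * (a (r t).2 : ℚ)) := by
    let Φ := topForm (X := A.left) K g hA.le
    have h1 : Φ (fun _ : Fin g => (2 : ℤ) • Additive.ofMul (phi c (∏ i, f i ^ a i))) =
        (2 : ℤ) ^ g * selfInt K g (pull (∏ i, f i ^ a i).left c) := by
      rw [Φ.map_smul_univ (fun _ : Fin g => (2 : ℤ)), Finset.prod_const, Finset.card_univ, Fintype.card_fin]
      rfl
    rw [two_phi_comb c hs f a, Φ.map_sum (g := fun (_ : Fin g) (p : Fin m × Fin m) =>
      (a p.1 * a p.2) • Additive.ofMul (bil c (f p.1) (f p.2)))] at h1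
    rw [mul_comm, show (2 : ℚ) ^ g * (selfInt K g (pull (∏ i, f i ^ a i).left c) : ℚ) =
      (((2 : ℤ) ^ g * selfInt K g (pull (∏ i, f i ^ a i).left c) : ℤ) : ℚ) by push_cast; rfl, ← h1]
    push_cast
    refine Finset.sum_congr rfl fun r _ => ?_
    rw [Φ.map_smul_univ (fun t => a (r t).1 * a (r t).2), smul_eq_mul]
    push_cast
    rw [mul_comm]
    rfl
  have he' : (selfInt K g c : ℚ) ≠ 0 := by exact_mod_cast he.ne'
  have hev : MvPolynomial.eval (fun i => (a i : ℚ)) (MvPolynomial.C D * ∑ r : Fin g → Fin m × Fin m,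
      MvPolynomial.C (T r : ℚ) * ∏ t, (MvPolynomial.X (r t).1 * MvPolynomial.X (r t).2)) =
      (selfInt K g (pull (∏ i, f i ^ a i).left c) : ℚ) / (selfInt K g c : ℚ) := by
    simp only [map_mul, map_sum, map_prod, MvPolynomial.eval_C, MvPolynomial.eval_X]
    rw [← key]
    simp only [D]
    field_simp
  rw [hev]
  refine ⟨fun hfin b => ?_, fun hfin => ?_⟩
  · rw [selfInt_pull_of_finite hA hB _ hfin c b, Int.cast_mul, Int.cast_natCast, mul_div_cancel_right₀ _ he']
  · rw [selfInt_pull_of_not_finite hA hB _ hfin c, Int.cast_zero, zero_div]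

end Deg

end Groth.Agent.DegPolyLib
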