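import Groth.Agent.DegPolyLib.MinPoly
import Groth.Agent.PoincareLib.Isogeny

/-!
# Simple abelian varieties, faithfulness, trivial abelian varieties
-/

set_option autoImplicit false
set_option backward.isDefEq.respectTransparency false
set_option linter.style.haveILetI false
set_option synthInstance.maxHeartbeats 400000
set_option maxHeartbeats 1000000

universe u

open CategoryTheory CategoryTheory.Limits MonoidalCategory CartesianMonoidalCategory MonObj AlgebraicGeometry
open Polynomial (C X)

noncomputable section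

namespace Groth.Agent.DegPolyLib

variable {k : Type u} [Field k]

/-- A one-point abelian variety is trivial. -/
theorem toUnit_eta_of_subsingleton {M : Over (Spec (CommRingCat.of k))} [GrpObj M] [IsProper M.hom]
    [GeometricallyIntegral M.hom] [Subsingleton M.left] : toUnit M ≫ η[M] = 𝟙 M := by
  haveI := CogenLib.isIntegral_left M
  haveI : IsClosedImmersion η[M].left := GrpSchLib.isClosedImmersion_unit
  haveI : Surjective η[M].left := ⟨fun b => ⟨IsLocalRing.closedPoint k, Subsingleton.elim _ _⟩⟩
  haveI : IsIso η[M].left := isIso_of_isClosedImmersion_of_surjective _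
  have e : (η[M] : 𝟙_ _ ⟶ M) ≫ toUnit M = 𝟙 _ := toUnit_unique _ _
  refine Over.OverMorphism.ext ?_
  have h1 : η[M].left ≫ (toUnit M).left = 𝟙 _ := congrArg CommaMorphism.left e
  show (toUnit M).left ≫ η[M].left = 𝟙 _
  rw [← cancel_epi η[M].left, ← Category.assoc, h1, Category.id_comp, Category.comp_id]

variable {A : Over (Spec (CommRingCat.of k))} [GrpObj A] [IsCommMonObj A] [IsProper A.hom] [GeometricallyIntegral A.hom]

/-- Non-zero endomorphisms of a simple abelian variety are surjective. -/
theorem surjective_of_simple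
    (hsimple : ∀ (B : Over (Spec (CommRingCat.of k))) [GrpObj B] [GeometricallyIntegral B.hom] (i : B ⟶ A) [IsMonHom i]
      [IsClosedImmersion i.left], Subsingleton B.left ∨ IsIso i) (φ : EndAV.End A) (hφ : φ ≠ 0) :
    Surjective φ.toHom.left := by
  obtain ⟨M, hM, p, j, hp, hj, hjc, hps, hMp, hMg, hMc, hpj⟩ := PoincareLib.exists_image_av (B := A) φ.toHom
  letI := hM
  haveI := hp; haveI := hj; haveI := hjc; haveI := hps; haveI := hMp; haveI := hMg; haveI := hMc
  rcases hsimple M j with hs | hi
  · refine absurd (EndAV.End.ext ?_) hφ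
    rw [← hpj, ← Category.comp_id p, ← toUnit_eta_of_subsingleton (M := M), ← Category.assoc,
      toUnit_unique (p ≫ toUnit M) (toUnit A), ← Hom.one_def, MonObj.one_comp, EndAV.End.toHom_zero]
  · haveI := hi
    haveI : IsIso j.left := (Over.forget _).map_isIso j
    rw [← hpj, Over.comp_left]
    infer_instance

/-- The endomorphism ring of a simple abelian variety has no zero divisors. -/
theorem noZeroDivisors_of_simple
    (hsimple : ∀ (B : Over (Spec (CommRingCat.of k))) [GrpObj B] [GeometricallyIntegral B.hom] (i : B ⟶ A) [IsMonHom i]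
      [IsClosedImmersion i.left], Subsingleton B.left ∨ IsIso i) (φ ψ : EndAV.End A) (h : φ * ψ = 0) :
    φ = 0 ∨ ψ = 0 := by
  by_contra hne
  rw [not_or] at hne
  haveI := CogenLib.isIntegral_left A
  haveI := surjective_of_simple hsimple ψ hne.2
  refine hne.1 (EndAV.End.ext (Over.OverMorphism.ext ?_))
  have h1 : ψ.toHom ≫ φ.toHom = ψ.toHom ≫ (1 : A ⟶ A) := by
    rw [← EndAV.End.toHom_mul, h, EndAV.End.toHom_zero, MonObj.comp_one]
  haveI : IsSeparated A.hom := inferInstance
  refine ext_of_isDominant_of_isSeparated A.hom ((Over.w φ.toHom).trans (Over.w _).symm) ψ.toHom.left ?_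
  exact congrArg CommaMorphism.left h1

/-- The representation on the Tate module is faithful. -/
theorem tateRep_injective (K : Type u) [Field K] [Algebra k K] [IsAlgClosed K] (l : ℕ) [Fact l.Prime]
    (hl : (l : k) ≠ 0) {φ : EndAV.End A} (h : EndAV.End.tateRep l (AVPtsLib.bcPt K) φ = 0) : φ = 0 := by
  by_contra hne
  haveI : Module.Free ℤ (EndAV.End A) := (AVHomLib.finite_hom A A).2
  have hli : LinearIndependent ℤ (fun _ : Fin 1 => φ) := linearIndependent_unique_iff.2 hne
  exact (AVHomLib.linearIndependent_tateMap K l hl (fun _ : Fin 1 => φ) hli).ne_zero 0 h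

variable {g : ℕ} (hA : topologicalKrullDim A.left = g)

include hA in
theorem subsingleton_end0_of_dim_zero (hg : g = 0) : Subsingleton (EndAV.End0 A) := by
  subst hg
  have h0 : deg (EndAV.End.toHom (0 : EndAV.End A)) ≠ 0 := by
    intro h
    have h1 := degE_intCast hA 0
    rw [Int.cast_zero, degE, h] at h1
    simp at h1
  haveI : IsMonHom (EndAV.End.toHom (0 : EndAV.End A)) := inferInstance
  haveI : IsFinite (EndAV.End.toHom (0 : EndAV.End A)).left := by
    by_contra hf
    exact h0 ((deg_eq_zero_iff hA hA _).2 hf)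
  haveI := AVLib.surjective_of_isFinite (EndAV.End.toHom (0 : EndAV.End A)) rfl
  haveI : Subsingleton ↥((𝟙_ (Over (Spec (CommRingCat.of k)))).left) := inferInstanceAs (Subsingleton (PrimeSpectrum k))
  haveI : Subsingleton A.left := ⟨fun a b => by
    obtain ⟨x, rfl⟩ := (EndAV.End.toHom (0 : EndAV.End A)).left.surjective a
    obtain ⟨y, rfl⟩ := (EndAV.End.toHom (0 : EndAV.End A)).left.surjective b
    rw [EndAV.End.toHom_zero, Hom.one_def, Over.comp_left, Scheme.Hom.comp_apply, Scheme.Hom.comp_apply]
    exact congrArg _ (Subsingleton.elim _ _)⟩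
  have h2 : (1 : EndAV.End A) = 0 := EndAV.End.ext (by
    rw [EndAV.End.toHom_one, EndAV.End.toHom_zero, Hom.one_def, toUnit_eta_of_subsingleton])
  refine subsingleton_of_zero_eq_one ?_
  rw [← map_zero (EndAV.toEnd0 (A := A)), ← map_one (EndAV.toEnd0 (A := A)), h2]

include hA in
theorem eq_one_of_subsingleton [Subsingleton (EndAV.End0 A)] (φ : EndAV.End A) (P : Polynomial ℤ)
    (hP : ∀ n : ℤ, P.eval n = (degE (φ - ((n : ℤ) : EndAV.End A)) : ℤ)) : P = 1 := by
  refine Polynomial.funext fun n => ?_
  rw [hP, AVHomLib.toEnd0_injective (A := A) (Subsingleton.elim (EndAV.toEnd0 (φ - ((n : ℤ) : EndAV.End A))) (EndAV.toEnd0 1)),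
    degE_one hA, Polynomial.eval_one, Nat.cast_one]

end Groth.Agent.DegPolyLib
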