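import Groth.Agent.CycLib.IntPull
import Groth.Agent.CycLib.FieldSetup
import Groth.Agent.NakaiLib.Cut
import Groth.Agent.PicLib.Group
import Groth.Agent.CurveFF.GenEtale

/-!
# Top intersection numbers on `Pic` and their behaviour under inverse image
-/

set_option autoImplicit false
set_option backward.isDefEq.respectTransparency false
set_option linter.style.haveILetI false

universe u

open CategoryTheory CategoryTheory.Limits AlgebraicGeometry TopologicalSpace
open Groth.Agent.IntLib (PicRing pairing dif compMod)
open Groth.Agent.Nakai (cl Aug cl_mem)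
open Groth.Agent.PicLib (Pic cls exists_cls cls_eq_cls pull pull_cls)

noncomputable section

namespace Groth.Agent.DegPolyLib

variable {X : Scheme.{u}}

/-- The first Chern class of a class of invertible modules. -/
def c1 : Pic X → PicRing X :=
  Quotient.lift (fun L => cl L.2) fun a b ⟨e⟩ => Nakai.cl_congr a.2 b.2 e

theorem c1_cls {L : X.Modules} (hL : PicF.IsInvertible L) : c1 (cls hL) = cl hL := rfl

theorem c1_mem (a : Pic X) : c1 a ∈ Aug X := by
  obtain ⟨L, hL, rfl⟩ := exists_cls a
  exact cl_mem hL

theorem c1_mul_sub_mem (a b : Pic X) : c1 (a * b) - c1 a - c1 b ∈ Aug X ^ 2 := by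
  obtain ⟨L, hL, rfl⟩ := exists_cls a
  obtain ⟨M, hM, rfl⟩ := exists_cls b
  rw [← PicLib.cls_tensor hL hM, c1_cls, c1_cls, c1_cls, Nakai.cl_tensor hL hM,
    show cl hL + cl hM + cl hL * cl hM - cl hL - cl hM = cl hL * cl hM by ring, pow_two]
  exact Ideal.mul_mem_mul (cl_mem _) (cl_mem _)

theorem prod_c1_mem {ι : Type} (s : Finset ι) (c : ι → Pic X) : ∏ i ∈ s, c1 (c i) ∈ Aug X ^ s.card := by
  rw [← Finset.prod_const]
  exact Ideal.prod_mem_prod fun i _ => c1_mem _

variable (k : Type u) [Field k] [X.Over (Spec (CommRingCat.of k))] [IsProper (X ↘ Spec (CommRingCat.of k))]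

theorem support_structureModule (X : Scheme.{u}) : CohB1.support (Coh.structureModule X) = Set.univ := by
  refine Set.eq_univ_of_forall fun x hsub => ?_
  exact not_subsingleton (X.presheaf.stalk x) ((ParaFLib.bijective_oneG (X := X) x).1.subsingleton)

theorem dim_supp_structureModule {g : ℕ} (hg : topologicalKrullDim X ≤ g) :
    topologicalKrullDim (CohB1.support (Coh.structureModule X)) < ((g + 1 : ℕ) : WithBot ℕ∞) :=
  lt_of_le_of_lt ((Topology.IsInducing.subtypeVal.topologicalKrullDim_le).trans hg)
    (WithBot.coe_lt_coe.2 (by exact_mod_cast g.lt_succ_self))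

/-- The intersection number of `g` classes. -/
def top {g : ℕ} (c : Fin g → Pic X) : ℤ := pairing k (Coh.structureModule X) (∏ i, c1 (c i))

theorem top_update_mul {g : ℕ} (hg : topologicalKrullDim X ≤ g) (c : Fin g → Pic X) (i : Fin g) (a b : Pic X) :
    top k (Function.update c i (a * b)) = top k (Function.update c i a) + top k (Function.update c i b) := by
  have e : ∀ x, ∏ j, c1 (Function.update c i x j) = c1 x * ∏ j ∈ Finset.univ.erase i, c1 (c j) := fun x => by
    rw [← Finset.mul_prod_erase _ _ (Finset.mem_univ i), Function.update_self]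
    exact congrArg _ (Finset.prod_congr rfl fun j hj => by rw [Function.update_of_ne (Finset.ne_of_mem_erase hj)])
  rw [top, top, top, e, e, e, ← map_add, ← add_mul]
  refine Nakai.pairing_congr k (n := g + 1) ?_ (DevLib.isCoh_structureModule X) (dim_supp_structureModule hg)
  rw [← sub_mul]
  have h1 := prod_c1_mem (Finset.univ.erase i) c
  have hgpos : 1 ≤ g := i.pos
  rw [Finset.card_erase_of_mem (Finset.mem_univ i), Finset.card_univ, Fintype.card_fin] at h1
  rw [show g + 1 = 2 + (g - 1) by omega, pow_add, show c1 (a * b) - (c1 a + c1 b) = c1 (a * b) - c1 a - c1 b by ring]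
  exact Ideal.mul_mem_mul (c1_mul_sub_mem a b) h1

/-- The intersection form as a multilinear map. -/
def topForm (g : ℕ) (hg : topologicalKrullDim X ≤ g) :
    MultilinearMap ℤ (fun _ : Fin g => Additive (Pic X)) ℤ where
  toFun c := top k fun i => (c i).toMul
  map_update_add' {inst} c i x y := by
    obtain rfl : inst = instDecidableEqFin g := Subsingleton.elim _ _
    have e : ∀ z, (fun j => (Function.update c i z j).toMul) = Function.update (fun j => (c j).toMul) i z.toMul :=
      fun z => funext fun j => Function.apply_update (fun _ => Additive.toMul) c i z j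
    rw [e, e, e]
    exact top_update_mul k hg _ i x.toMul y.toMul
  map_update_smul' {inst} c i n x := by
    obtain rfl : inst = instDecidableEqFin g := Subsingleton.elim _ _
    have e : ∀ z, (fun j => (Function.update c i z j).toMul) = Function.update (fun j => (c j).toMul) i z.toMul :=
      fun z => funext fun j => Function.apply_update (fun _ => Additive.toMul) c i z j
    rw [e, e]
    exact (AddMonoidHom.mk' (fun z : Additive (Pic X) =>
      top k (Function.update (fun j => (c j).toMul) i z.toMul)) fun a b =>
        top_update_mul k hg _ i a.toMul b.toMul).map_zsmul n x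

theorem topForm_apply {g : ℕ} (hg : topologicalKrullDim X ≤ g) (c : Fin g → Additive (Pic X)) :
    topForm k g hg c = top k fun i => (c i).toMul := rfl

/-- The self-intersection number. -/
def selfInt (g : ℕ) (a : Pic X) : ℤ := top k fun _ : Fin g => a

theorem selfInt_pos {g : ℕ} (hg : topologicalKrullDim X = g) {H : X.Modules} (hH : CohB1.IsAmple H) :
    0 < selfInt k g (cls hH.1) := by
  haveI := EulerIneqLib.isNoetherian_proper (X := X) k
  rw [selfInt, top, Finset.prod_const, Finset.card_univ, Fintype.card_fin, c1_cls]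
  refine (Nakai.isPos_cl_pow k hH g _ (DevLib.isCoh_structureModule X) (dim_supp_structureModule hg.le)).2
    ((HilbLib.not_dim_lt_iff ?_ g).1 ?_)
  · rw [support_structureModule]; exact isClosed_univ
  · rw [support_structureModule, (Homeomorph.Set.univ ↥X).isHomeomorph.topologicalKrullDim_eq, hg]
    exact lt_irrefl _

variable {Y : Scheme.{u}} [Y.Over (Spec (CommRingCat.of k))] [IsProper (Y ↘ Spec (CommRingCat.of k))]
  (f : X ⟶ Y) (hf : f ≫ (Y ↘ Spec (CommRingCat.of k)) = X ↘ Spec (CommRingCat.of k))
  [IsIntegral X] [IsIntegral Y] {g : ℕ} (hX : topologicalKrullDim X = g) (hY : topologicalKrullDim Y = g)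

include hX in
theorem delta_generic {δ : X → ℤ} (hδ : Cyc.DeltaCompat (X ↘ Spec (CommRingCat.of k)) δ (fun _ => 0)) :
    δ (genericPoint X) = g := by
  obtain ⟨t, ht, hd⟩ := CycLib.delta_dim k δ hδ (genericPoint X)
  rw [(genericPoint_spec X).def, (Homeomorph.Set.univ ↥X).isHomeomorph.topologicalKrullDim_eq, hX] at hd
  rw [ht]
  exact_mod_cast hd.symm

theorem pieces_structureModule (hd : topologicalKrullDim X = g) (c : Fin g → Pic X) :
    top k c = pairing k (compMod (genericPoint X)) (∏ i, c1 (c i)) := by
  haveI := EulerIneqLib.isNoetherian_proper (X := X) k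
  refine Nakai.pairing_piece k (Nakai.isPiece_structureModule X) (IntLib.isPiece_compMod _) (d := g) ?_ ?_
  · exact lt_of_le_of_lt (Topology.IsInducing.subtypeVal.topologicalKrullDim_le.trans hd.le)
      (WithBot.coe_lt_coe.2 (by exact_mod_cast g.lt_succ_self))
  · have h := prod_c1_mem Finset.univ c
    rwa [Finset.card_univ, Fintype.card_fin] at h

include hf hX hY in
theorem exists_top_pull_eq : ∃ (δX : X → ℤ) (δY : Y → ℤ),
    Cyc.DeltaCompat (X ↘ Spec (CommRingCat.of k)) δX (fun _ => 0) ∧
    Cyc.DeltaCompat (Y ↘ Spec (CommRingCat.of k)) δY (fun _ => 0) ∧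
    ∀ c : Fin g → Pic Y, top k (fun i => pull f (c i)) =
      (AlgebraicCycle.mapCoeff f δX δY (genericPoint X) : ℤ) *
        pairing k (compMod (f (genericPoint X))) (∏ i, c1 (c i)) := by
  obtain ⟨δX, hδX⟩ := CycLib.exists_delta k X
  obtain ⟨δY, hδY⟩ := CycLib.exists_delta k Y
  refine ⟨δX, δY, hδX, hδY, fun c => ?_⟩
  choose M hM hc using fun i => exists_cls (c i)
  have h := CycLib.pairing_pullback k hf hδX hδY g M hM (genericPoint X) (delta_generic k hX hδX)
  rw [pieces_structureModule k hX]
  simp only [← hc, pull_cls, c1_cls, Nakai.cl_eq_neg_dif, Finset.prod_neg, Finset.card_univ, Fintype.card_fin]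
  rw [show ∀ (Z : Scheme.{u}) (z : PicRing Z), (-1 : PicRing Z) ^ g * z = ((-1 : ℤ) ^ g) • z from
      fun Z z => by rw [zsmul_eq_mul]; push_cast; rfl,
    show ∀ (Z : Scheme.{u}) (z : PicRing Z), (-1 : PicRing Z) ^ g * z = ((-1 : ℤ) ^ g) • z from
      fun Z z => by rw [zsmul_eq_mul]; push_cast; rfl, map_zsmul, map_zsmul, h, smul_eq_mul, smul_eq_mul]
  ring

include hf hX hY in
/-- A finite flat surjective map multiplies intersection numbers by its rank. -/
theorem top_pull_of_finite [IsFinite f] [Flat f] [Surjective f] (c : Fin g → Pic Y) (y : Y) :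
    top k (fun i => pull f (c i)) = (Scheme.Hom.finrank f y : ℤ) * top k c := by
  obtain ⟨δX, δY, hδX, hδY, h⟩ := exists_top_pull_eq k f hf hX hY
  haveI : IsLocallyNoetherian Y := LocallyOfFiniteType.isLocallyNoetherian (Y ↘ Spec (CommRingCat.of k))
  haveI : LocallyOfFinitePresentation f := inferInstance
  rw [h, AlgebraicCycle.mapCoeff, if_pos (by rw [NormHomLib.map_genericPoint f, delta_generic k hX hδX,
    delta_generic k hY hδY]), CurveFF.GenEtale.finrank_eq_residueDegree f y, NormHomLib.map_genericPoint f,
    pieces_structureModule k hY c]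

include hf hX hY in
/-- A map which is not surjective kills intersection numbers. -/
theorem top_pull_of_not_surjective [IsProper f] (hs : ¬ Surjective f) (c : Fin g → Pic Y) :
    top k (fun i => pull f (c i)) = 0 := by
  obtain ⟨δX, δY, hδX, hδY, h⟩ := exists_top_pull_eq k f hf hX hY
  rw [h, AlgebraicCycle.mapCoeff, if_neg fun e => hs ⟨fun y => ?_⟩, Nat.cast_zero, zero_mul]
  have hη : f (genericPoint X) = genericPoint Y := by
    by_contra hne
    have h1 := (CycLib.isSetup_of_field k δY hδY).2.2 _ _
      (genericPoint_specializes (f (genericPoint X))) (Ne.symm hne)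
    rw [delta_generic k hX hδX] at e
    rw [delta_generic k hY hδY, ← e] at h1
    exact lt_irrefl _ h1.1
  have h2 : closure ({genericPoint Y} : Set Y) ⊆ Set.range f :=
    closure_minimal (Set.singleton_subset_iff.2 ⟨_, hη⟩) f.isClosedMap.isClosed_range
  rw [(genericPoint_spec Y).def] at h2
  exact h2 trivial

end Groth.Agent.DegPolyLib
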