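import Mathlib

/-!
# A finite algebra with transitively permuted points
-/

set_option autoImplicit false

namespace Groth.Agent.DegPolyLib

universe u

variable {k : Type u} [Field k] [IsAlgClosed k] {R : Type u} [CommRing R] [Algebra k R] [Module.Finite k R]

theorem exists_algHom_ker (m : MaximalSpectrum R) : ∃ x : R →ₐ[k] k, RingHom.ker x = m.asIdeal := by
  haveI := m.isMaximal
  letI : Field (R ⧸ m.asIdeal) := Ideal.Quotient.field m.asIdeal
  haveI : Algebra.IsIntegral k (R ⧸ m.asIdeal) := Algebra.IsIntegral.of_finite k _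
  have hb := IsAlgClosed.algebraMap_bijective_of_isIntegral (k := k) (K := R ⧸ m.asIdeal)
  refine ⟨((AlgEquiv.ofBijective (Algebra.ofId k (R ⧸ m.asIdeal)) hb).symm.toAlgHom).comp
    (Ideal.Quotient.mkₐ k m.asIdeal), ?_⟩
  ext r
  simp [RingHom.mem_ker, Ideal.Quotient.eq_zero_iff_mem]

theorem algHom_ext_ker {x y : R →ₐ[k] k} (h : RingHom.ker x = RingHom.ker y) : x = y := AlgHom.ext fun r => by
  have h1 : r - algebraMap k R (x r) ∈ RingHom.ker x := by simp [RingHom.mem_ker]
  rw [h, RingHom.mem_ker, map_sub, AlgHom.commutes] at h1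
  exact (sub_eq_zero.1 h1).symm

variable (k R) in
/-- The points are the maximal ideals. -/
noncomputable def ptsMax : (R →ₐ[k] k) ≃ MaximalSpectrum R :=
  Equiv.ofBijective (fun x => ⟨RingHom.ker x, RingHom.ker_isMaximal_of_surjective x
      fun c => ⟨algebraMap k R c, x.commutes c⟩⟩)
    ⟨fun x y h => algHom_ext_ker (congrArg MaximalSpectrum.asIdeal h),
      fun m => (exists_algHom_ker (k := k) m).imp fun x hx => MaximalSpectrum.ext hx⟩

/-- The number of points divides the dimension. -/
theorem natCard_dvd_finrank (htrans : ∀ x y : R →ₐ[k] k, ∃ e : R ≃ₐ[k] R, x.comp e.toAlgHom = y) :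
    Nat.card (R →ₐ[k] k) ∣ Module.finrank k R := by
  haveI : IsArtinianRing R := IsArtinianRing.of_finite k R
  haveI : Fintype (MaximalSpectrum R) := Fintype.ofFinite _
  rw [Nat.card_congr (ptsMax k R)]
  by_cases hR : IsEmpty (MaximalSpectrum R)
  · haveI : Subsingleton R := by
      by_contra hn
      rw [not_subsingleton_iff_nontrivial] at hn
      obtain ⟨I, hI⟩ := Ideal.exists_maximal R
      exact hR.elim ⟨I, hI⟩
    rw [Module.finrank_zero_of_subsingleton]
    exact dvd_zero _
  obtain ⟨m₀⟩ := not_isEmpty_iff.1 hR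
  have hb : Function.Bijective (MaximalSpectrum.toPiLocalization R) :=
    (PrimeSpectrum.piLocalizationToMaximal_bijective fun I hI => haveI := hI; inferInstance).comp
      PrimeSpectrum.toPiLocalization_bijective
  let E : R ≃ₐ[k] (∀ m : MaximalSpectrum R, Localization.AtPrime m.asIdeal) :=
    AlgEquiv.ofRingEquiv (f := RingEquiv.ofBijective _ hb) fun c => funext fun m =>
      (IsScalarTower.algebraMap_apply k R (Localization.AtPrime m.asIdeal) c).symm
  haveI : ∀ m : MaximalSpectrum R, Module.Finite k (Localization.AtPrime m.asIdeal) := fun m =>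
    Module.Finite.of_surjective ((Pi.evalAlgHom k (fun m : MaximalSpectrum R => Localization.AtPrime m.asIdeal) m).comp
      E.toAlgHom).toLinearMap (fun y => let ⟨x, hx⟩ := Function.surjective_eval m y; ⟨E.symm x, by simpa using hx⟩)
  rw [E.toLinearEquiv.finrank_eq, Module.finrank_pi_fintype]
  have key : ∀ m : MaximalSpectrum R, Module.finrank k (Localization.AtPrime m.asIdeal) =
      Module.finrank k (Localization.AtPrime m₀.asIdeal) := fun m => by
    obtain ⟨e, he⟩ := htrans ((ptsMax k R).symm m₀) ((ptsMax k R).symm m)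
    have h0 : RingHom.ker ((ptsMax k R).symm m₀) = m₀.asIdeal :=
      congrArg MaximalSpectrum.asIdeal ((ptsMax k R).apply_symm_apply m₀)
    have h1 : RingHom.ker ((ptsMax k R).symm m) = m.asIdeal :=
      congrArg MaximalSpectrum.asIdeal ((ptsMax k R).apply_symm_apply m)
    have hmap : m.asIdeal.primeCompl.map (e.toRingEquiv.toMonoidHom) = m₀.asIdeal.primeCompl := by
      ext r
      simp only [Submonoid.mem_map, Ideal.mem_primeCompl_iff, ← h0, ← h1, RingHom.mem_ker, ← he]
      exact ⟨fun ⟨s, hs, hsr⟩ => hsr ▸ hs,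
        fun hr => ⟨e.symm r, by simpa using hr, e.apply_symm_apply r⟩⟩
    exact (IsLocalization.algEquivOfAlgEquiv (Localization.AtPrime m.asIdeal) (Localization.AtPrime m₀.asIdeal) e
      hmap).toLinearEquiv.finrank_eq
  rw [Finset.sum_congr rfl fun m _ => key m, Finset.sum_const, Finset.card_univ, Nat.card_eq_fintype_card, smul_eq_mul]
  exact dvd_mul_right _ _

end Groth.Agent.DegPolyLib
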